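import Groth.Agent.L11.Magnet.Orbit
import Groth.Agent.L11.Magnet.Thick
import Groth.Agent.L20.Pinch.Affine

/-!
# Averaging families over a diagonalisable group that are constant modulo a square zero ideal

For a square zero surjection `q : R → R₀`, the spectrum of the ring of those elements of `R[M]` which are
constant over `R₀` is a push-out; extracting the degree zero coefficient gives an invariant mean of
morphisms `D(M) × Spec R → X` that are constant over `R₀`.
-/

set_option autoImplicit false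
universe u

open CategoryTheory CategoryTheory.Limits MonoidalCategory CartesianMonoidalCategory MonObj AlgebraicGeometry Opposite

set_option backward.isDefEq.respectTransparency.types false

noncomputable section

namespace Groth.L09.MagnetSmooth

open Groth.L11.Magnet

section Ring

variable (M : Type) [AddCommGroup M] {R R₀ : Type u} [CommRing R] [CommRing R₀] (q : R →+* R₀)

/-- The map of group algebras. -/
abbrev qM : MonoidAlgebra R (Multiplicative M) →+* MonoidAlgebra R₀ (Multiplicative M) :=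
  MonoidAlgebra.mapRingHom (Multiplicative M) q

/-- Elements of the group algebra that are constant over the quotient. -/
def Z : Subring (MonoidAlgebra R (Multiplicative M)) :=
  (algebraMap R₀ (MonoidAlgebra R₀ (Multiplicative M))).range.comap (qM M q)

variable {M q}

theorem qM_eq_of_mem {z : MonoidAlgebra R (Multiplicative M)} (hz : z ∈ Z M q) :
    qM M q z = algebraMap R₀ _ (q (z.coeff 1)) := by
  classical
  obtain ⟨r, hr⟩ := hz
  have h := congrArg (fun w : MonoidAlgebra R₀ (Multiplicative M) => w.coeff 1) hr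
  simp at h
  rw [← hr, h]

theorem mem_Z_iff {z : MonoidAlgebra R (Multiplicative M)} : z ∈ Z M q ↔ ∀ m, m ≠ 1 → q (z.coeff m) = 0 := by
  classical
  constructor
  · intro hz m hm
    have h := congrArg (fun w : MonoidAlgebra R₀ (Multiplicative M) => w.coeff m) (qM_eq_of_mem hz)
    simpa [hm.symm, hm] using h
  · intro h
    refine ⟨q (z.coeff 1), ?_⟩
    ext m
    by_cases hm : m = 1
    · subst hm; simp
    · simp [hm, h m hm]

theorem algebraMap_mem_Z (r : R) : algebraMap R (MonoidAlgebra R (Multiplicative M)) r ∈ Z M q := by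
  classical
  rw [mem_Z_iff]
  intro m hm
  simp [hm]

variable (M q)

/-- The constants. -/
def constZ : R →+* Z M q :=
  (algebraMap R (MonoidAlgebra R (Multiplicative M))).codRestrict _ algebraMap_mem_Z

variable (hq : Function.Surjective q) (hsq : RingHom.ker q ^ 2 = ⊥)

include hq hsq in
theorem coeff_one_mul {x y : MonoidAlgebra R (Multiplicative M)} (hx : x ∈ Z M q) (hy : y ∈ Z M q) :
    (x * y).coeff 1 = x.coeff 1 * y.coeff 1 := by
  classical
  let C := algebraMap R (MonoidAlgebra R (Multiplicative M))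
  have hC : ∀ r, qM M q (C r) = algebraMap R₀ _ (q r) := fun r => by simp [C]
  have hk : ∀ w ∈ Z M q, w - C (w.coeff 1) ∈ RingHom.ker (qM M q) := fun w hw => by
    rw [RingHom.mem_ker, map_sub, hC, qM_eq_of_mem hw, sub_self]
  have h0 : (x - C (x.coeff 1)) * (y - C (y.coeff 1)) = 0 := by
    have := Ideal.mul_mem_mul (hk x hx) (hk y hy)
    rwa [← pow_two, (mapRange_surj_sq (M := M) q hq hsq).2, Ideal.mem_bot] at this
  have hd : x * y = x.coeff 1 • (y - C (y.coeff 1)) + y.coeff 1 • (x - C (x.coeff 1)) +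
      C (x.coeff 1 * y.coeff 1) := by
    simp only [Algebra.smul_def, map_mul]
    linear_combination h0
  rw [hd]
  simp [C]

/-- The constant coefficient. -/
def piZ : Z M q →+* R where
  toFun z := z.1.coeff 1
  map_one' := by simp
  map_mul' x y := coeff_one_mul M q hq hsq x.2 y.2
  map_zero' := by simp
  map_add' x y := by simp

theorem piZ_constZ : (piZ M q hq hsq).comp (constZ M q) = RingHom.id R := by
  classical
  refine RingHom.ext fun r => ?_
  show (algebraMap R (MonoidAlgebra R (Multiplicative M)) r).coeff 1 = r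
  simp

theorem isFib_Z : Groth.L20.Pinch.IsFib (q.comp (piZ M q hq hsq)) (Z M q).subtype
    (algebraMap R₀ (MonoidAlgebra R₀ (Multiplicative M))) (qM M q) where
  comm := RingHom.ext fun z => (qM_eq_of_mem z.2).symm
  inj _ _ h := Subtype.ext h
  glue x y h := by
    classical
    refine ⟨⟨y, x, h⟩, ?_, rfl⟩
    have h' := congrArg (fun w : MonoidAlgebra R₀ (Multiplicative M) => w.coeff 1) h
    show q (y.coeff 1) = x
    simp at h'
    exact h'.symm
  surj := (mapRange_surj_sq (M := M) q hq hsq).1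

end Ring

section Scheme

variable {S : Scheme.{u}} (M : Type) [AddCommGroup M] {R R₀ : Type u} [CommRing R] [CommRing R₀]
  (q : R →+* R₀) (hq : Function.Surjective q) (hsq : RingHom.ker q ^ 2 = ⊥)
  (s : Spec (CommRingCat.of R) ⟶ S)

/-- The closed subscheme. -/
abbrev red : Over S := Over.mk (Spec.map (CommRingCat.ofHom q) ≫ s)

/-- Its inclusion. -/
abbrev redι : red q s ⟶ Over.mk s := Over.homMk (Spec.map (CommRingCat.ofHom q)) rfl

/-- The standard chart of `D(M)_S × Spec R`. -/
abbrev ch : chartObj s (algebraMap R (MonoidAlgebra R (Multiplicative M))) ⟶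
    _root_.Magnet.AMonS S M ⊗ Over.mk s :=
  chart s (algebraMap R (MonoidAlgebra R (Multiplicative M))) (MonoidAlgebra.of R (Multiplicative M))

theorem isIso_ch : IsIso (ch M s) := chart_isIso s _ _ (isMonAlg_monoidAlgebra R)

/-- The push-out of the constant map along the inclusion. -/
abbrev W : Over S := Over.mk (Spec.map (CommRingCat.ofHom (constZ M q)) ≫ s)

/-- From the family. -/
def vW : chartObj s (algebraMap R (MonoidAlgebra R (Multiplicative M))) ⟶ W M q s :=
  Over.homMk (Spec.map (CommRingCat.ofHom (Z M q).subtype)) (by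
    show _ ≫ Spec.map _ ≫ s = Spec.map _ ≫ s
    rw [← Spec.map_comp_assoc, ← CommRingCat.ofHom_comp]
    rfl)

/-- The mean. -/
def piW : Over.mk s ⟶ W M q s :=
  Over.homMk (Spec.map (CommRingCat.ofHom (piZ M q hq hsq))) (by
    show _ ≫ Spec.map _ ≫ s = s
    rw [← Spec.map_comp_assoc, ← CommRingCat.ofHom_comp, piZ_constZ]
    simp)

/-- The thickening of group algebras. -/
def dM : chartObj (Spec.map (CommRingCat.ofHom q) ≫ s) (algebraMap R₀ (MonoidAlgebra R₀ (Multiplicative M))) ⟶
    chartObj s (algebraMap R (MonoidAlgebra R (Multiplicative M))) :=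
  Over.homMk (Spec.map (CommRingCat.ofHom (qM M q))) (by
    show _ ≫ Spec.map _ ≫ s = Spec.map _ ≫ Spec.map _ ≫ s
    rw [← Spec.map_comp_assoc, ← Spec.map_comp_assoc, ← CommRingCat.ofHom_comp, ← CommRingCat.ofHom_comp]
    congr 3
    refine RingHom.ext fun r => ?_
    simp)

theorem dM_ch : dM M q s ≫ ch M s =
    ch M (Spec.map (CommRingCat.ofHom q) ≫ s) ≫ (_root_.Magnet.AMonS S M ◁ redι q s) := by
  apply CartesianMonoidalCategory.hom_ext
  · apply MPts.char_injective
    refine MonoidHom.ext fun m => ?_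
    rw [Category.assoc, MPts.char_comp, chart_fst_char, Category.assoc, whiskerLeft_fst, chart_fst_char]
    refine (appTop_specMap (qM M q) _).trans (congrArg _ ?_)
    simp [MonoidAlgebra.of_apply]
  · simp only [ch, chart, Category.assoc, whiskerLeft_snd, lift_snd, lift_snd_assoc]
    apply Over.OverMorphism.ext
    show Spec.map _ ≫ Spec.map _ = Spec.map _ ≫ Spec.map _
    rw [← Spec.map_comp, ← Spec.map_comp, ← CommRingCat.ofHom_comp, ← CommRingCat.ofHom_comp]
    congr 2
    refine RingHom.ext fun r => ?_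
    simp

theorem dM_vW : dM M q s ≫ vW M q s =
    ch M (Spec.map (CommRingCat.ofHom q) ≫ s) ≫ snd _ _ ≫ redι q s ≫ piW M q hq hsq s := by
  rw [ch, chart, lift_snd_assoc]
  apply Over.OverMorphism.ext
  show Spec.map _ ≫ Spec.map _ = Spec.map _ ≫ Spec.map _ ≫ Spec.map _
  rw [← Spec.map_comp, ← Spec.map_comp, ← Spec.map_comp, ← CommRingCat.ofHom_comp, ← CommRingCat.ofHom_comp,
    ← CommRingCat.ofHom_comp]
  exact congrArg (fun φ => Spec.map (CommRingCat.ofHom φ)) (isFib_Z M q hq hsq).comm.symm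

/-- `φ` is the mean of the family `c`. -/
def IsAvg {X : Over S} (c : _root_.Magnet.AMonS S M ⊗ Over.mk s ⟶ X) (φ : Over.mk s ⟶ X) : Prop :=
  ∃ c' : W M q s ⟶ X, vW M q s ≫ c' = ch M s ≫ c ∧ piW M q hq hsq s ≫ c' = φ

variable {M q hq hsq s} {X : Over S}

theorem redι_desc {c : _root_.Magnet.AMonS S M ⊗ Over.mk s ⟶ X} {c' : W M q s ⟶ X}
    (h : vW M q s ≫ c' = ch M s ≫ c) :
    redι q s ≫ piW M q hq hsq s ≫ c' =
      lift (1 : red q s ⟶ _root_.Magnet.AMonS S M) (redι q s) ≫ c := by
  have := isIso_ch M (Spec.map (CommRingCat.ofHom q) ≫ s)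
  let e : red q s ⟶ chartObj (Spec.map (CommRingCat.ofHom q) ≫ s) (algebraMap R₀ (MonoidAlgebra R₀ (Multiplicative M))) :=
    lift (1 : red q s ⟶ _root_.Magnet.AMonS S M) (𝟙 _) ≫ inv (ch M (Spec.map (CommRingCat.ofHom q) ≫ s))
  have h2 := congrArg (fun z => e ≫ dM M q s ≫ z) h
  simp only [← Category.assoc, dM_ch] at h2
  simp only [Category.assoc] at h2
  rw [reassoc_of% dM_vW M q hq hsq s] at h2
  simpa [e, lift_whiskerLeft_assoc] using h2

theorem IsAvg.unique {c : _root_.Magnet.AMonS S M ⊗ Over.mk s ⟶ X} {φ φ' : Over.mk s ⟶ X}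
    (h : IsAvg M q hq hsq s c φ) (h' : IsAvg M q hq hsq s c φ') : φ = φ' := by
  obtain ⟨c₁, h₁, rfl⟩ := h
  obtain ⟨c₂, h₂, rfl⟩ := h'
  suffices c₁ = c₂ by rw [this]
  apply Over.OverMorphism.ext
  refine (isFib_Z M q hq hsq).hom_ext_spec _ _ ?_ ?_
  · have := congrArg Over.Hom.left ((redι_desc (hq := hq) (hsq := hsq) h₁).trans (redι_desc (hq := hq) (hsq := hsq) h₂).symm)
    simpa [Groth.L09.Patch.sp, piW, CommRingCat.ofHom_comp, Spec.map_comp] using this
  · exact congrArg Over.Hom.left (h₁.trans h₂.symm)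

theorem exists_isAvg {c : _root_.Magnet.AMonS S M ⊗ Over.mk s ⟶ X} {g : red q s ⟶ X}
    (hc : (_root_.Magnet.AMonS S M ◁ redι q s) ≫ c = snd _ _ ≫ g) :
    ∃ φ, IsAvg M q hq hsq s c φ ∧ redι q s ≫ φ = g := by
  obtain ⟨H, H₁, H₂⟩ := (isFib_Z M q hq hsq).exists_desc_hom g.left (ch M s ≫ c).left (by
    have h1 : dM M q s ≫ ch M s ≫ c = ch M (Spec.map (CommRingCat.ofHom q) ≫ s) ≫ snd _ _ ≫ g := by
      rw [reassoc_of% dM_ch, hc]
    have h2 : ch M (Spec.map (CommRingCat.ofHom q) ≫ s) ≫ snd _ _ = Over.homMk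
        (Spec.map (CommRingCat.ofHom (algebraMap R₀ (MonoidAlgebra R₀ (Multiplicative M))))) rfl := by
      rw [ch, chart, lift_snd]
    rw [reassoc_of% h2] at h1
    exact (congrArg Over.Hom.left h1).symm)
  have hπ : Spec.map (CommRingCat.ofHom (q.comp (piZ M q hq hsq))) =
      (redι q s ≫ piW M q hq hsq s).left := by
    show Spec.map _ = Spec.map _ ≫ Spec.map _
    rw [← Spec.map_comp, ← CommRingCat.ofHom_comp]
  let c' : W M q s ⟶ X := Over.homMk H ((isFib_Z M q hq hsq).hom_ext_spec _ _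
    (by
      rw [reassoc_of% H₁, Over.w g]
      show _ = Groth.L09.Patch.sp _ ≫ _
      rw [show Groth.L09.Patch.sp (q.comp (piZ M q hq hsq)) = _ from hπ]
      exact (Over.w (redι q s ≫ piW M q hq hsq s)).symm)
    (by
      rw [reassoc_of% H₂, Over.w (ch M s ≫ c)]
      exact (Over.w (vW M q s)).symm))
  refine ⟨piW M q hq hsq s ≫ c', ⟨c', Over.OverMorphism.ext H₂, rfl⟩, ?_⟩
  apply Over.OverMorphism.ext
  rw [← Category.assoc, Over.comp_left, ← hπ]
  exact H₁

theorem IsAvg.comp {c : _root_.Magnet.AMonS S M ⊗ Over.mk s ⟶ X} {φ : Over.mk s ⟶ X}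
    (h : IsAvg M q hq hsq s c φ) {Y : Over S} (f : X ⟶ Y) : IsAvg M q hq hsq s (c ≫ f) (φ ≫ f) := by
  obtain ⟨c', h₁, rfl⟩ := h
  exact ⟨c' ≫ f, by rw [reassoc_of% h₁], by rw [Category.assoc]⟩

theorem IsAvg.pair {c : _root_.Magnet.AMonS S M ⊗ Over.mk s ⟶ X} {φ : Over.mk s ⟶ X}
    (h : IsAvg M q hq hsq s c φ) {Y : Over S} {d : _root_.Magnet.AMonS S M ⊗ Over.mk s ⟶ Y}
    {φ' : Over.mk s ⟶ Y} (h' : IsAvg M q hq hsq s d φ') : IsAvg M q hq hsq s (lift c d) (lift φ φ') := by
  obtain ⟨c', h₁, rfl⟩ := h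
  obtain ⟨d', h₂, rfl⟩ := h'
  exact ⟨lift c' d', by rw [comp_lift, comp_lift, h₁, h₂], by rw [comp_lift]⟩

theorem isAvg_const (ψ : Over.mk s ⟶ X) : IsAvg M q hq hsq s (snd _ _ ≫ ψ) ψ := by
  let cW : W M q s ⟶ Over.mk s := Over.homMk (Spec.map (CommRingCat.ofHom (constZ M q))) rfl
  have h1 : vW M q s ≫ cW = ch M s ≫ snd _ _ := by
    rw [ch, chart, lift_snd]
    apply Over.OverMorphism.ext
    show Spec.map _ ≫ Spec.map _ = Spec.map _
    rw [← Spec.map_comp, ← CommRingCat.ofHom_comp]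
    rfl
  have h2 : piW M q hq hsq s ≫ cW = 𝟙 _ := by
    apply Over.OverMorphism.ext
    show Spec.map _ ≫ Spec.map _ = 𝟙 _
    rw [← Spec.map_comp, ← CommRingCat.ofHom_comp, piZ_constZ]
    exact Spec.map_id _
  exact ⟨cW ≫ ψ, by rw [reassoc_of% h1], by rw [reassoc_of% h2]⟩

end Scheme

end Groth.L09.MagnetSmooth
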