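import Groth.Agent.L09.MagnetSmooth.Natural

/-!
# Equivariant lifts along square zero thickenings with an action of a diagonalisable group
-/

set_option autoImplicit false
universe u

open CategoryTheory CategoryTheory.Limits MonoidalCategory CartesianMonoidalCategory MonObj AlgebraicGeometry Opposite

set_option backward.isDefEq.respectTransparency.types false

noncomputable section

namespace Groth.L09.MagnetSmooth

open Groth.L11.Magnet

variable {S : Scheme.{u}} {M : Type} [AddCommGroup M]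

/-- The inverse of a point. -/
def pinv {T : Over S} (g : T ⟶ _root_.Magnet.AMonS S M) : T ⟶ _root_.Magnet.AMonS S M :=
  g ≫ _root_.Magnet.AMonS.map S (-(AddMonoidHom.id M))

theorem pinv_mul {T : Over S} (g : T ⟶ _root_.Magnet.AMonS S M) : pinv g * g = 1 := by
  apply MPts.char_injective
  refine MonoidHom.ext fun m => ?_
  rw [MPts.char_mul, MPts.char_one, MonoidHom.mul_apply, pinv, MPts.char_map, ← map_mul]
  refine (congrArg _ ?_).trans (map_one _)
  exact Multiplicative.toAdd.injective (neg_add_cancel m.toAdd)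

theorem points_mul_comm {T : Over S} (g h : T ⟶ _root_.Magnet.AMonS S M) : g * h = h * g := by
  apply MPts.char_injective
  rw [MPts.char_mul, MPts.char_mul, _root_.mul_comm]

theorem pinv_mul_rev {T : Over S} (g h : T ⟶ _root_.Magnet.AMonS S M) : h * pinv (g * h) = pinv g := by
  calc h * pinv (g * h) = (pinv g * g) * (h * pinv (g * h)) := by rw [pinv_mul, _root_.one_mul]
    _ = pinv g * (g * h * pinv (g * h)) := by simp only [_root_.mul_assoc]
    _ = pinv g := by rw [points_mul_comm (g * h), pinv_mul, _root_.mul_one]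

theorem comp_pinv {T T' : Over S} (k : T' ⟶ T) (g : T ⟶ _root_.Magnet.AMonS S M) :
    k ≫ pinv g = pinv (k ≫ g) := (Category.assoc _ _ _).symm

variable {R R₀ : Type u} [CommRing R] [CommRing R₀] {q : R →+* R₀}
  (hq : Function.Surjective q) (hsq : RingHom.ker q ^ 2 = ⊥) {s : Spec (CommRingCat.of R) ⟶ S}
  (b : _root_.Magnet.MonAct (_root_.Magnet.AMonS S M) (Over.mk s))
  (b₀ : _root_.Magnet.MonAct (_root_.Magnet.AMonS S M) (red q s))
  {X : Over S} (a : _root_.Magnet.MonAct (_root_.Magnet.AMonS S M) X)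

include hq hsq in
/-- A morphism that is equivariant on the closed subscheme can be corrected to an equivariant one; what is
already equivariant is not changed. -/
theorem exists_equivariant (hι : _root_.Magnet.MonAct.IsEquivariant b₀ b (redι q s)) (ψ : Over.mk s ⟶ X)
    (hψ : _root_.Magnet.MonAct.IsEquivariant b₀ a (redι q s ≫ ψ)) :
    ∃ φ : Over.mk s ⟶ X, _root_.Magnet.MonAct.IsEquivariant b a φ ∧ redι q s ≫ φ = redι q s ≫ ψ ∧
      (∀ {Y : Over S} (aY : _root_.Magnet.MonAct (_root_.Magnet.AMonS S M) Y) (f : X ⟶ Y),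
        _root_.Magnet.MonAct.IsEquivariant a aY f → _root_.Magnet.MonAct.IsEquivariant b aY (ψ ≫ f) →
          φ ≫ f = ψ ≫ f) ∧
      (∀ {R' : Type u} [CommRing R'] (s' : Spec (CommRingCat.of R') ⟶ S)
        (b' : _root_.Magnet.MonAct (_root_.Magnet.AMonS S M) (Over.mk s')) (k : Over.mk s' ⟶ Over.mk s),
        _root_.Magnet.MonAct.IsEquivariant b' b k → _root_.Magnet.MonAct.IsEquivariant b' a (k ≫ ψ) →
          k ≫ φ = k ≫ ψ) := by
  classical
  let G := _root_.Magnet.AMonS S M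
  let c : G ⊗ Over.mk s ⟶ X := lift (pinv (fst _ _)) (b.act ≫ ψ) ≫ a.act
  have hc₀ : (G ◁ redι q s) ≫ c = snd _ _ ≫ redι q s ≫ ψ := by
    show (G ◁ redι q s) ≫ lift (pinv (fst _ _)) (b.act ≫ ψ) ≫ a.act = _
    rw [comp_lift_assoc, comp_pinv, whiskerLeft_fst, ← reassoc_of% hι, hψ]
    rw [show (G ◁ (redι q s ≫ ψ)) = lift (fst G (red q s)) (snd _ _ ≫ redι q s ≫ ψ) by
      apply CartesianMonoidalCategory.hom_ext <;> simp]
    rw [← _root_.Magnet.MonAct.lift_mul_act, pinv_mul, _root_.Magnet.MonAct.lift_one_act]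
  obtain ⟨φ, hφ, hφ₀⟩ := exists_isAvg (hq := hq) (hsq := hsq) hc₀
  refine ⟨φ, ?_, hφ₀, ?_, ?_⟩
  · let κ := algebraMap R (MonoidAlgebra R (Multiplicative M))
    let q' : MonoidAlgebra R (Multiplicative M) →+* MonoidAlgebra R₀ (Multiplicative M) := qM M q
    let s' : Spec (CommRingCat.of (MonoidAlgebra R (Multiplicative M))) ⟶ S :=
      Spec.map (CommRingCat.ofHom κ) ≫ s
    let e : Over.mk s' ⟶ G ⊗ Over.mk s := ch M s
    have := isIso_ch M s
    let j : red q' s' ⟶ chartObj (Spec.map (CommRingCat.ofHom q) ≫ s)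
        (algebraMap R₀ (MonoidAlgebra R₀ (Multiplicative M))) :=
      Over.homMk (𝟙 _) (by
        rw [Category.id_comp]
        show Spec.map _ ≫ Spec.map _ ≫ s = Spec.map _ ≫ Spec.map _ ≫ s
        rw [← Spec.map_comp_assoc, ← Spec.map_comp_assoc, ← CommRingCat.ofHom_comp, ← CommRingCat.ofHom_comp]
        congr 3
        exact RingHom.ext fun r => by simp [q', κ])
    have hj : redι q' s' = j ≫ dM M q s := by
      apply Over.OverMorphism.ext
      exact (Category.id_comp _).symm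
    let h := e ≫ fst G (Over.mk s)
    let p := e ≫ snd G (Over.mk s)
    have hk : (j ≫ ch M (Spec.map (CommRingCat.ofHom q) ≫ s) ≫ b₀.act) ≫ redι q s =
        redι q' s' ≫ e ≫ b.act := by
      show _ = redι q' s' ≫ ch M s ≫ b.act
      rw [hj, Category.assoc, Category.assoc, Category.assoc, hι, reassoc_of% dM_ch]
    have hp : (j ≫ ch M (Spec.map (CommRingCat.ofHom q) ≫ s) ≫ snd _ _) ≫ redι q s = redι q' s' ≫ p := by
      show _ = redι q' s' ≫ ch M s ≫ snd _ _
      rw [hj, Category.assoc, Category.assoc, Category.assoc, reassoc_of% dM_ch, whiskerLeft_snd]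
    have hq' : Function.Surjective q' := (mapRange_surj_sq (M := M) q hq hsq).1
    have hsq' : RingHom.ker q' ^ 2 = ⊥ := (mapRange_surj_sq (M := M) q hq hsq).2
    have h1 := hφ.nat (R₀' := MonoidAlgebra R₀ (Multiplicative M)) hq' hsq' (e ≫ b.act)
      (j ≫ ch M (Spec.map (CommRingCat.ofHom q) ≫ s) ≫ b₀.act) hk 1
    have h2 := hφ.nat (R₀' := MonoidAlgebra R₀ (Multiplicative M)) hq' hsq' p
      (j ≫ ch M (Spec.map (CommRingCat.ofHom q) ≫ s) ≫ snd _ _) hp h
    have h3 := ((isAvg_const (M := M) (q := q') (hq := hq') (hsq := hsq') h).pair h2).comp a.act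
    have key : lift (snd G (Over.mk s') ≫ h) (lift (fst _ _ * (snd _ _ ≫ h)) (snd _ _ ≫ p) ≫ c) ≫ a.act =
        lift (fst _ _ * (snd _ _ ≫ (1 : Over.mk s' ⟶ G))) (snd _ _ ≫ e ≫ b.act) ≫ c := by
      have he : e ≫ b.act = lift h p ≫ b.act := by
        rw [← comp_lift_assoc, lift_fst_snd, Category.id_comp]
      have he' : snd G (Over.mk s') ≫ e ≫ b.act = lift (snd _ _ ≫ h) (snd _ _ ≫ p) ≫ b.act := by
        rw [he, ← Category.assoc, comp_lift]
      have hcv : ∀ (Z : Over S) (g : Z ⟶ G) (z : Z ⟶ Over.mk s),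
          lift g z ≫ c = lift (pinv g) (lift g z ≫ b.act ≫ ψ) ≫ a.act := fun Z g z => by
        show lift g z ≫ lift (pinv (fst _ _)) (b.act ≫ ψ) ≫ a.act = _
        rw [comp_lift_assoc, comp_pinv, lift_fst]
      rw [MonObj.comp_one, _root_.mul_one, hcv, hcv, ← _root_.Magnet.MonAct.lift_mul_act, pinv_mul_rev, he',
        _root_.Magnet.MonAct.lift_mul_act_assoc]
    rw [key] at h3
    have h4 : e ≫ b.act ≫ φ = e ≫ (G ◁ φ) ≫ a.act := by
      rw [← Category.assoc, IsAvg.unique h1 h3]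
      show lift (e ≫ fst _ _) ((e ≫ snd _ _) ≫ φ) ≫ a.act = _
      rw [Category.assoc, ← comp_lift_assoc]
      congr 2
    exact (cancel_epi (ch M s)).1 h4
  · intro Y aY f hf hψf
    have e : c ≫ f = snd _ _ ≫ ψ ≫ f := by
      show (lift (pinv (fst _ _)) (b.act ≫ ψ) ≫ a.act) ≫ f = _
      rw [Category.assoc, hf, lift_whiskerLeft_assoc, Category.assoc, hψf,
        show (G ◁ (ψ ≫ f)) = lift (fst G (Over.mk s)) (snd _ _ ≫ ψ ≫ f) by
          apply CartesianMonoidalCategory.hom_ext <;> simp,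
        ← _root_.Magnet.MonAct.lift_mul_act, pinv_mul, _root_.Magnet.MonAct.lift_one_act]
    have h1 := hφ.comp f
    rw [e] at h1
    exact h1.unique (isAvg_const _)
  · intro R' _ s' b' k hk hkψ
    obtain ⟨kr, hkr⟩ : ∃ kr : R →+* R', k.left = Spec.map (CommRingCat.ofHom kr) :=
      ⟨(Spec.preimage k.left).hom, (Spec.map_preimage k.left).symm⟩
    let J := (RingHom.ker q).map kr
    have hJ : RingHom.ker (Ideal.Quotient.mk J) ^ 2 = ⊥ := by
      rw [Ideal.mk_ker, ← Ideal.map_pow, hsq, Ideal.map_bot]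
    let kr₀ : R₀ →+* R' ⧸ J := RingHom.liftOfSurjective q hq ⟨(Ideal.Quotient.mk J).comp kr,
      fun x hx => Ideal.Quotient.eq_zero_iff_mem.2 (Ideal.mem_map_of_mem kr hx)⟩
    have hkr₀ : kr₀.comp q = (Ideal.Quotient.mk J).comp kr := RingHom.liftOfRightInverse_comp q _ _ _
    let k₀ : red (Ideal.Quotient.mk J) s' ⟶ red q s := Over.homMk (Spec.map (CommRingCat.ofHom kr₀)) (by
      show _ ≫ Spec.map _ ≫ s = Spec.map _ ≫ s'
      rw [show s' = k.left ≫ s from (Over.w k).symm, hkr]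
      show _ ≫ Spec.map _ ≫ s = Spec.map _ ≫ Spec.map _ ≫ s
      rw [← Spec.map_comp_assoc, ← Spec.map_comp_assoc, ← CommRingCat.ofHom_comp, ← CommRingCat.ofHom_comp, hkr₀])
    have hk₀ : k₀ ≫ redι q s = redι (Ideal.Quotient.mk J) s' ≫ k := by
      apply Over.OverMorphism.ext
      show Spec.map _ ≫ Spec.map _ = Spec.map _ ≫ k.left
      rw [hkr, ← Spec.map_comp, ← Spec.map_comp, ← CommRingCat.ofHom_comp, ← CommRingCat.ofHom_comp, hkr₀]
    have h1 := hφ.nat Ideal.Quotient.mk_surjective hJ k k₀ hk₀ 1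
    have key : lift (fst _ _ * (snd _ _ ≫ (1 : Over.mk s' ⟶ G))) (snd _ _ ≫ k) ≫ c = snd _ _ ≫ k ≫ ψ := by
      have e₁ : G ◁ k = lift (fst G (Over.mk s')) (snd _ _ ≫ k) := by
        apply CartesianMonoidalCategory.hom_ext <;> simp
      have e₂ : G ◁ (k ≫ ψ) = lift (fst G (Over.mk s')) (snd _ _ ≫ k ≫ ψ) := by
        apply CartesianMonoidalCategory.hom_ext <;> simp
      rw [MonObj.comp_one, _root_.mul_one, ← e₁]
      simp only [c]
      rw [comp_lift_assoc, comp_pinv, whiskerLeft_fst, ← reassoc_of% hk, hkψ, e₂,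
        ← _root_.Magnet.MonAct.lift_mul_act, pinv_mul, _root_.Magnet.MonAct.lift_one_act]
    rw [key] at h1
    exact h1.unique (isAvg_const _)

end Groth.L09.MagnetSmooth
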