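import Groth.Agent.L09.MagnetSmooth.PushoutAct
import Groth.Prelude.Def_MoreMor

/-!
# Equivariant push-outs of faces along first order thickenings
-/

set_option autoImplicit false
universe u

open CategoryTheory CategoryTheory.Limits MonoidalCategory CartesianMonoidalCategory MonObj AlgebraicGeometry Opposite

set_option backward.isDefEq.respectTransparency.types false

noncomputable section

namespace Groth.L09.MagnetSmooth

open _root_.Magnet
open Groth.L11.Magnet
open Groth.L09.Patch (sp)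

/-- A first order thickening of an affine scheme is a square zero quotient. -/
theorem exists_quotient_model {T : Scheme.{u}} [IsAffine T] (Tb : Over T)
    (hTb : MoreMor.IsFirstOrderThickening Tb.hom) :
    ∃ I : Ideal Γ(T, ⊤), I ^ 2 = ⊥ ∧ Nonempty
      (Over.mk (Spec.map (CommRingCat.ofHom (Ideal.Quotient.mk I)) ≫ T.isoSpec.inv) ≅ Tb) := by
  have hci : IsClosedImmersion Tb.hom := hTb.1.1
  have : IsAffine Tb.left := isAffine_of_isAffineHom Tb.hom
  let φ := Tb.hom.appTop.hom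
  have hφ : Function.Surjective φ := Tb.hom.app_surjective ⊤ (isAffineOpen_top T)
  refine ⟨RingHom.ker φ, ?_, ⟨?_⟩⟩
  · have h := congrArg (fun J : T.IdealSheafData => J.ideal ⟨⊤, isAffineOpen_top T⟩) hTb.2
    rw [pow_two]
    simp only [Scheme.IdealSheafData.ideal_mul, Pi.mul_apply, Scheme.Hom.ker_apply,
      Scheme.IdealSheafData.ideal_bot, Pi.bot_apply] at h
    exact h
  · let e := RingHom.quotientKerEquivOfSurjective hφ
    let i₀ : Spec (CommRingCat.of (Γ(T, ⊤) ⧸ RingHom.ker φ)) ≅ Spec Γ(Tb.left, ⊤) :=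
      { hom := Spec.map (CommRingCat.ofHom e.symm.toRingHom)
        inv := Spec.map (CommRingCat.ofHom e.toRingHom)
        hom_inv_id := by rw [← Spec.map_comp, ← CommRingCat.ofHom_comp]; simp
        inv_hom_id := by rw [← Spec.map_comp, ← CommRingCat.ofHom_comp]; simp }
    refine Over.isoMk (i₀ ≪≫ Tb.left.isoSpec.symm) ?_
    rw [← cancel_mono T.isoSpec.hom]
    simp only [Iso.trans_hom, Iso.symm_hom, Over.mk_hom, Category.assoc, Iso.inv_hom_id, Category.comp_id, i₀]
    rw [← Scheme.isoSpec_hom_naturality, Iso.inv_hom_id_assoc, ← Spec.map_comp]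
    congr 1
    ext x
    show e.symm (φ x) = Ideal.Quotient.mk _ x
    rw [RingEquiv.symm_apply_eq]
    rfl

variable {T : Scheme.{u}} [IsAffine T] {M : Type} [AddCommGroup M] {N F : AddSubmonoid M}

section Model

variable (hF : IsFace N F) (I : Ideal Γ(T, ⊤)) {R : Type u} [CommRing R]
  (f1 : R →+* MonoidAlgebra Γ(T, ⊤) (Multiplicative F))
  (f2 : R →+* MonoidAlgebra (Γ(T, ⊤) ⧸ I) (Multiplicative N))

/-- The canonical section to the terminal object. -/
theorem isIso_fst_top (Q : Over T) : IsIso (fst Q (Over.mk T.isoSpec.inv)) := by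
  refine ⟨lift (𝟙 _) (Over.homMk (Q.hom ≫ T.isoSpec.hom)
    (by show (_ ≫ T.isoSpec.hom) ≫ T.isoSpec.inv = _; simp)), ?_, lift_fst _ _⟩
  apply CartesianMonoidalCategory.hom_ext
  · simp
  · apply Over.OverMorphism.ext
    have : Mono (Over.mk T.isoSpec.inv).hom := inferInstanceAs (Mono T.isoSpec.inv)
    rw [← cancel_mono (Over.mk T.isoSpec.inv).hom, Over.w, Over.w]

/-- The model square of the face. -/
theorem exists_model (hfib : Groth.L20.Pinch.IsFib f1 f2 (qN F I) (faceAlgHom (Γ(T, ⊤) ⧸ I) hF).toRingHom)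
    (s : Spec (CommRingCat.of R) ⟶ T) (w1 : sN F T.isoSpec.inv = sp f1 ≫ s)
    (w2 : sp (qN N I) ≫ sN N T.isoSpec.inv = sp f2 ≫ s) (Tb : Over T)
    (eT : Over.mk (Spec.map (CommRingCat.ofHom (Ideal.Quotient.mk I)) ≫ T.isoSpec.inv) ≅ Tb) :
    ∃ (ν₁ : AMonS T F ⟶ Over.mk s) (ν₂ : AMonS T N ⊗ Tb ⟶ Over.mk s),
      Nonempty (FibSq (fst (AMonS T F) Tb) (AMonS.faceMap T hF ▷ Tb) ν₁ ν₂) := by
  let i1 : red f1 s ⟶ Over.mk (sN F T.isoSpec.inv) := idH _ _ w1
  let i2 : red f2 s ⟶ red (qN N I) (sN N T.isoSpec.inv) := idH _ _ w2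
  let i0 : red (qN F I) (sp f1 ≫ s) ⟶ red (qN F I) (sN F T.isoSpec.inv) := idH _ _ (congrArg (_ ≫ ·) w1)
  have : IsIso i1 := isIso_idH _ _ _
  have : IsIso i2 := isIso_idH _ _ _
  have : IsIso i0 := isIso_idH _ _ _
  have := isIso_fst_top (AMonS T F)
  refine ⟨(asIso (i1 ≫ eN F T.isoSpec.inv ≫ fst _ _)).inv ≫ redι f1 s,
    (asIso (i2 ≫ eR N T.isoSpec.inv I) ≪≫ whiskerLeftIso (AMonS T N) eT).inv ≫ redι f2 s, ⟨?_⟩⟩
  refine { T := R, T1 := _, T2 := _, T0 := _, φ1 := f1, φ2 := f2, ψ1 := qN F I,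
           ψ2 := (faceAlgHom (Γ(T, ⊤) ⧸ I) hF).toRingHom, isFib := hfib, s := s, e := Iso.refl _,
           e1 := asIso (i1 ≫ eN F T.isoSpec.inv ≫ fst _ _),
           e2 := asIso (i2 ≫ eR N T.isoSpec.inv I) ≪≫ whiskerLeftIso (AMonS T N) eT,
           e0 := asIso (i0 ≫ eR F T.isoSpec.inv I) ≪≫ whiskerLeftIso (AMonS T F) eT,
           sq1 := by simp, sq2 := by simp, sq01 := ?_, sq02 := ?_ }
  · have h1 : redι (qN F I) (sp f1 ≫ s) ≫ i1 = i0 ≫ redι (qN F I) (sN F T.isoSpec.inv) := by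
      apply Over.OverMorphism.ext
      rw [Over.comp_left, Over.comp_left, idH_left, idH_left]
      exact (Category.comp_id _).trans (Category.id_comp _).symm
    simp only [Iso.trans_hom, asIso_hom, whiskerLeftIso_hom, Category.assoc]
    rw [reassoc_of% h1, reassoc_of% redι_eN, whiskerLeft_fst]
    simp
  · obtain ⟨d, hd, hd'⟩ := chart_faceMap (Spec.map (CommRingCat.ofHom (Ideal.Quotient.mk I)) ≫ T.isoSpec.inv) hF
    simp only [Iso.trans_hom, asIso_hom, whiskerLeftIso_hom, Category.assoc, eR]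
    rw [whisker_exchange, ← reassoc_of% hd']
    simp only [← Category.assoc]
    congr 2
    apply Over.OverMorphism.ext
    simp only [Over.comp_left, hd, i2, i0, idH_left, eR0_left]
    exact ((Category.comp_id _).trans (Category.comp_id _)).trans
      (((congrArg (· ≫ _) (Category.id_comp _)).trans (Category.id_comp _)).symm)

end Model

/-- The push-out of a face along a first order thickening. -/
theorem exists_facePushout (hF : IsFace N F) (Tb : Over T) (hTb : MoreMor.IsFirstOrderThickening Tb.hom) :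
    ∃ (P : Over T) (ν₁ : AMonS T F ⟶ P) (ν₂ : AMonS T N ⊗ Tb ⟶ P),
      IsAffine P.left ∧ Nonempty (FibSq (fst (AMonS T F) Tb) (AMonS.faceMap T hF ▷ Tb) ν₁ ν₂) := by
  obtain ⟨I, hI, ⟨eT⟩⟩ := exists_quotient_model Tb hTb
  have hsur : Function.Surjective (faceAlgHom (Γ(T, ⊤) ⧸ I) hF).toRingHom := fun z =>
    ⟨_, DFunLike.congr_fun (faceAlgHom_comp_mapDomain _ hF) z⟩
  let κ : Γ(T, ⊤) →+* Groth.L20.Pinch.Fib (qN F I) (faceAlgHom (Γ(T, ⊤) ⧸ I) hF).toRingHom :=
    ((algebraMap _ (MonoidAlgebra Γ(T, ⊤) (Multiplicative F))).prod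
      ((algebraMap _ (MonoidAlgebra (Γ(T, ⊤) ⧸ I) (Multiplicative N))).comp (Ideal.Quotient.mk I))).codRestrict _
      fun r => by
        show qN F I (algebraMap _ _ r) = faceAlgHom _ hF (algebraMap _ _ (Ideal.Quotient.mk I r))
        rw [(faceAlgHom _ hF).commutes]
        simp
  obtain ⟨ν₁, ν₂, hν⟩ := exists_model hF I _ _ (Groth.L20.Pinch.isFib_fib (qN F I) _ hsur)
    (Spec.map (CommRingCat.ofHom κ) ≫ T.isoSpec.inv)
    (by
      show Spec.map _ ≫ _ = Spec.map _ ≫ Spec.map _ ≫ _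
      rw [← Spec.map_comp_assoc, ← CommRingCat.ofHom_comp]
      rfl)
    (by
      show Spec.map _ ≫ Spec.map _ ≫ _ = Spec.map _ ≫ Spec.map _ ≫ _
      rw [← Spec.map_comp_assoc, ← Spec.map_comp_assoc, ← CommRingCat.ofHom_comp, ← CommRingCat.ofHom_comp]
      congr 3
      refine RingHom.ext fun r => ?_
      show qN N I (algebraMap _ _ r) = algebraMap _ _ (Ideal.Quotient.mk I r)
      simp) Tb eT
  exact ⟨_, ν₁, ν₂, inferInstanceAs (IsAffine (Spec _)), hν⟩

end Groth.L09.MagnetSmooth
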