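import Groth.Agent.L09.MagnetSmooth.Lift

/-!
# Push-out squares of spectra of fibre products, multiplied by diagonalisable group schemes
-/

set_option autoImplicit false
universe u

open CategoryTheory CategoryTheory.Limits MonoidalCategory CartesianMonoidalCategory MonObj AlgebraicGeometry Opposite

set_option backward.isDefEq.respectTransparency.types false

noncomputable section

namespace Groth.L09.MagnetSmooth

open Groth.L11.Magnet
open Groth.L09.Patch (sp)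
open Groth.L20.Pinch (IsFib)

variable {S : Scheme.{u}}

/-- A square in schemes over the base isomorphic to the spectrum of a fibre product of rings. -/
structure FibSq {Q₀ Q₁ Q₂ P : Over S} (j₁ : Q₀ ⟶ Q₁) (j₂ : Q₀ ⟶ Q₂) (p₁ : Q₁ ⟶ P) (p₂ : Q₂ ⟶ P) :
    Type (u + 1) where
  T : Type u
  T1 : Type u
  T2 : Type u
  T0 : Type u
  [cT : CommRing T]
  [cT1 : CommRing T1]
  [cT2 : CommRing T2]
  [cT0 : CommRing T0]
  φ1 : T →+* T1
  φ2 : T →+* T2
  ψ1 : T1 →+* T0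
  ψ2 : T2 →+* T0
  isFib : IsFib φ1 φ2 ψ1 ψ2
  s : Spec (CommRingCat.of T) ⟶ S
  e : Over.mk s ≅ P
  e1 : red φ1 s ≅ Q₁
  e2 : red φ2 s ≅ Q₂
  e0 : red ψ1 (sp φ1 ≫ s) ≅ Q₀
  sq1 : redι φ1 s ≫ e.hom = e1.hom ≫ p₁
  sq2 : redι φ2 s ≫ e.hom = e2.hom ≫ p₂
  sq01 : redι ψ1 (sp φ1 ≫ s) ≫ e1.hom = e0.hom ≫ j₁
  sq02 : (Over.homMk (sp ψ2) (by
      show sp ψ2 ≫ sp φ2 ≫ s = sp ψ1 ≫ sp φ1 ≫ s
      rw [← Category.assoc, ← Category.assoc, Groth.L09.Patch.sp_comp, Groth.L09.Patch.sp_comp, isFib.comm]) :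
      red ψ1 (sp φ1 ≫ s) ⟶ red φ2 s) ≫ e2.hom = e0.hom ≫ j₂

attribute [instance] FibSq.cT FibSq.cT1 FibSq.cT2 FibSq.cT0

variable {Q₀ Q₁ Q₂ P : Over S} {j₁ : Q₀ ⟶ Q₁} {j₂ : Q₀ ⟶ Q₂} {p₁ : Q₁ ⟶ P} {p₂ : Q₂ ⟶ P}

theorem FibSq.isPushout (h : FibSq j₁ j₂ p₁ p₂) : IsPushout j₁ j₂ p₁ p₂ := by
  let jj : red h.ψ1 (sp h.φ1 ≫ h.s) ⟶ red h.φ2 h.s := Over.homMk (sp h.ψ2) (by
    show sp h.ψ2 ≫ sp h.φ2 ≫ h.s = sp h.ψ1 ≫ sp h.φ1 ≫ h.s
    rw [← Category.assoc, ← Category.assoc, Groth.L09.Patch.sp_comp, Groth.L09.Patch.sp_comp, h.isFib.comm])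
  let r1 : red h.φ1 h.s ⟶ Over.mk h.s := redι h.φ1 h.s
  let r2 : red h.φ2 h.s ⟶ Over.mk h.s := redι h.φ2 h.s
  let r0 : red h.ψ1 (sp h.φ1 ≫ h.s) ⟶ red h.φ1 h.s := redι h.ψ1 (sp h.φ1 ≫ h.s)
  have hw : r0 ≫ r1 = jj ≫ r2 := by
    apply Over.OverMorphism.ext
    show sp h.ψ1 ≫ sp h.φ1 = sp h.ψ2 ≫ sp h.φ2
    rw [Groth.L09.Patch.sp_comp, Groth.L09.Patch.sp_comp, h.isFib.comm]
  have hex : ∀ c : PushoutCocone r0 jj, ∃ H : Over.mk h.s ⟶ c.pt, r1 ≫ H = c.inl ∧ r2 ≫ H = c.inr := fun c => by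
    obtain ⟨H, H1, H2⟩ := h.isFib.exists_desc_hom c.inl.left c.inr.left (congrArg Over.Hom.left c.condition)
    exact ⟨Over.homMk H (h.isFib.hom_ext_spec _ _ (by rw [reassoc_of% H1, Over.w c.inl]; rfl)
      (by rw [reassoc_of% H2, Over.w c.inr]; rfl)), Over.OverMorphism.ext H1, Over.OverMorphism.ext H2⟩
  have key : IsPushout r0 jj r1 r2 := ⟨⟨hw⟩, ⟨PushoutCocone.IsColimit.mk _
    (fun c => (hex c).choose) (fun c => (hex c).choose_spec.1) (fun c => (hex c).choose_spec.2)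
    (fun c m h1 h2 => Over.OverMorphism.ext (h.isFib.hom_ext_spec _ _
      (congrArg Over.Hom.left (h1.trans (hex c).choose_spec.1.symm))
      (congrArg Over.Hom.left (h2.trans (hex c).choose_spec.2.symm))))⟩⟩
  exact key.of_iso h.e0 h.e1 h.e2 h.e h.sq01 h.sq02 h.sq1 h.sq2

variable (M : Type) [AddCommGroup M]

theorem isFib_monoidAlgebra {T T1 T2 T0 : Type u} [CommRing T] [CommRing T1] [CommRing T2] [CommRing T0]
    {φ1 : T →+* T1} {φ2 : T →+* T2} {ψ1 : T1 →+* T0} {ψ2 : T2 →+* T0} (h : IsFib φ1 φ2 ψ1 ψ2) :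
    IsFib (qM M φ1) (qM M φ2) (qM M ψ1) (qM M ψ2) where
  comm := by rw [← MonoidAlgebra.mapRingHom_comp, ← MonoidAlgebra.mapRingHom_comp, h.comm]
  inj z h1 h2 := by
    ext m
    exact h.inj _ (by simpa using congrArg (fun w => w.coeff m) h1) (by simpa using congrArg (fun w => w.coeff m) h2)
  glue x y e := by
    classical
    have he : ∀ m, ψ1 (x.coeff m) = ψ2 (y.coeff m) := fun m => by
      simpa using congrArg (fun w : MonoidAlgebra T0 (Multiplicative M) => w.coeff m) e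
    choose t ht using fun m => h.glue _ _ (he m)
    refine ⟨∑ m ∈ x.coeff.support ∪ y.coeff.support, MonoidAlgebra.single m (t m), ?_, ?_⟩
    · ext m
      simp [MonoidAlgebra.mapRingHom_single, ht, Finsupp.single_apply]
      intro h1 _
      exact h1.symm
    · ext m
      simp [MonoidAlgebra.mapRingHom_single, ht, Finsupp.single_apply]
      intro _ h1
      exact h1.symm
  surj z := by
    induction z using MonoidAlgebra.induction_linear with
    | zero => exact ⟨0, map_zero _⟩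
    | add a b ha hb =>
      obtain ⟨a, rfl⟩ := ha
      obtain ⟨b, rfl⟩ := hb
      exact ⟨a + b, map_add _ _ _⟩
    | single m r =>
      obtain ⟨r, rfl⟩ := h.surj r
      exact ⟨MonoidAlgebra.single m r, by simp⟩

theorem exists_ch_nat {R R' : Type u} [CommRing R] [CommRing R'] (φ : R →+* R')
    (s : Spec (CommRingCat.of R) ⟶ S) (s' : Spec (CommRingCat.of R') ⟶ S) (k : Over.mk s' ⟶ Over.mk s)
    (hk : k.left = sp φ) :
    ∃ d : chartObj s' (algebraMap R' (MonoidAlgebra R' (Multiplicative M))) ⟶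
        chartObj s (algebraMap R (MonoidAlgebra R (Multiplicative M))),
      d.left = sp (qM M φ) ∧ d ≫ ch M s = ch M s' ≫ (_root_.Magnet.AMonS S M ◁ k) := by
  obtain ⟨d, hd, hd'⟩ := chart_map (AddMonoidHom.id M) φ (algebraMap R (MonoidAlgebra R (Multiplicative M)))
    (algebraMap R' (MonoidAlgebra R' (Multiplicative M))) (MonoidAlgebra.of R (Multiplicative M))
    (MonoidAlgebra.of R' (Multiplicative M)) (qM M φ)
    (RingHom.ext fun r => by simp) (fun n => by simp [MonoidAlgebra.of_apply]) s s' k hk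
  have hid : _root_.Magnet.AMonS.map S (AddMonoidHom.id M) = 𝟙 _ := by
    apply MPts.char_injective
    refine MonoidHom.ext fun n => ?_
    rw [← Category.id_comp (_root_.Magnet.AMonS.map S _), MPts.char_map]
    rfl
  rw [hid, id_tensorHom] at hd'
  exact ⟨d, hd, hd'⟩

theorem w_qM {R R' : Type u} [CommRing R] [CommRing R'] (φ : R →+* R') (s : Spec (CommRingCat.of R) ⟶ S) :
    Spec.map (CommRingCat.ofHom (algebraMap R' (MonoidAlgebra R' (Multiplicative M)))) ≫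
        Spec.map (CommRingCat.ofHom φ) ≫ s =
      Spec.map (CommRingCat.ofHom (qM M φ)) ≫
        Spec.map (CommRingCat.ofHom (algebraMap R (MonoidAlgebra R (Multiplicative M)))) ≫ s := by
  rw [← Spec.map_comp_assoc, ← Spec.map_comp_assoc, ← CommRingCat.ofHom_comp, ← CommRingCat.ofHom_comp]
  congr 3
  exact RingHom.ext fun r => by simp

/-- Multiplying by `D(M)` preserves such squares. -/
def FibSq.tensor (h : FibSq j₁ j₂ p₁ p₂) :
    FibSq (_root_.Magnet.AMonS S M ◁ j₁) (_root_.Magnet.AMonS S M ◁ j₂) (_root_.Magnet.AMonS S M ◁ p₁)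
      (_root_.Magnet.AMonS S M ◁ p₂) :=
  haveI := isIso_ch M h.s
  haveI := isIso_ch M (sp h.φ1 ≫ h.s)
  haveI := isIso_ch M (sp h.φ2 ≫ h.s)
  haveI := isIso_ch M (sp h.ψ1 ≫ sp h.φ1 ≫ h.s)
  let s' := Spec.map (CommRingCat.ofHom (algebraMap h.T (MonoidAlgebra h.T (Multiplicative M)))) ≫ h.s
  let i1 : red (qM M h.φ1) s' ⟶
      chartObj (sp h.φ1 ≫ h.s) (algebraMap h.T1 (MonoidAlgebra h.T1 (Multiplicative M))) :=
    idH _ _ (w_qM M h.φ1 h.s)
  let i2 : red (qM M h.φ2) s' ⟶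
      chartObj (sp h.φ2 ≫ h.s) (algebraMap h.T2 (MonoidAlgebra h.T2 (Multiplicative M))) :=
    idH _ _ (w_qM M h.φ2 h.s)
  let i0 : red (qM M h.ψ1) (sp (qM M h.φ1) ≫ s') ⟶
      chartObj (sp h.ψ1 ≫ sp h.φ1 ≫ h.s) (algebraMap h.T0 (MonoidAlgebra h.T0 (Multiplicative M))) :=
    idH _ _ ((w_qM M h.ψ1 (sp h.φ1 ≫ h.s)).trans (congrArg (_ ≫ ·) (w_qM M h.φ1 h.s)))
  haveI : IsIso i1 := isIso_idH _ _ _
  haveI : IsIso i2 := isIso_idH _ _ _
  haveI : IsIso i0 := isIso_idH _ _ _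
  { T := MonoidAlgebra h.T (Multiplicative M)
    T1 := MonoidAlgebra h.T1 (Multiplicative M)
    T2 := MonoidAlgebra h.T2 (Multiplicative M)
    T0 := MonoidAlgebra h.T0 (Multiplicative M)
    φ1 := qM M h.φ1
    φ2 := qM M h.φ2
    ψ1 := qM M h.ψ1
    ψ2 := qM M h.ψ2
    isFib := isFib_monoidAlgebra M h.isFib
    s := s'
    e := asIso (ch M h.s) ≪≫ whiskerLeftIso (_root_.Magnet.AMonS S M) h.e
    e1 := asIso (i1 ≫ ch M (sp h.φ1 ≫ h.s)) ≪≫ whiskerLeftIso (_root_.Magnet.AMonS S M) h.e1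
    e2 := asIso (i2 ≫ ch M (sp h.φ2 ≫ h.s)) ≪≫ whiskerLeftIso (_root_.Magnet.AMonS S M) h.e2
    e0 := asIso (i0 ≫ ch M (sp h.ψ1 ≫ sp h.φ1 ≫ h.s)) ≪≫ whiskerLeftIso (_root_.Magnet.AMonS S M) h.e0
    sq1 := by
      obtain ⟨d, hd, hd'⟩ := exists_ch_nat M h.φ1 h.s (sp h.φ1 ≫ h.s) (redι h.φ1 h.s) rfl
      have : redι (qM M h.φ1) s' = i1 ≫ d := by
        apply Over.OverMorphism.ext
        rw [Over.comp_left, hd, idH_left]
        exact (Category.id_comp _).symm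
      simp only [Iso.trans_hom, asIso_hom, whiskerLeftIso_hom, Category.assoc]
      rw [this, Category.assoc, reassoc_of% hd', ← MonoidalCategory.whiskerLeft_comp, h.sq1,
        MonoidalCategory.whiskerLeft_comp]
    sq2 := by
      obtain ⟨d, hd, hd'⟩ := exists_ch_nat M h.φ2 h.s (sp h.φ2 ≫ h.s) (redι h.φ2 h.s) rfl
      have : redι (qM M h.φ2) s' = i2 ≫ d := by
        apply Over.OverMorphism.ext
        rw [Over.comp_left, hd, idH_left]
        exact (Category.id_comp _).symm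
      simp only [Iso.trans_hom, asIso_hom, whiskerLeftIso_hom, Category.assoc]
      rw [this, Category.assoc, reassoc_of% hd', ← MonoidalCategory.whiskerLeft_comp, h.sq2,
        MonoidalCategory.whiskerLeft_comp]
    sq01 := by
      obtain ⟨d, hd, hd'⟩ := exists_ch_nat M h.ψ1 (sp h.φ1 ≫ h.s) (sp h.ψ1 ≫ sp h.φ1 ≫ h.s)
        (redι h.ψ1 (sp h.φ1 ≫ h.s)) rfl
      have : redι (qM M h.ψ1) (sp (qM M h.φ1) ≫ s') ≫ i1 = i0 ≫ d := by
        apply Over.OverMorphism.ext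
        rw [Over.comp_left, Over.comp_left, hd, idH_left, idH_left]
        exact (Category.comp_id _).trans (Category.id_comp _).symm
      simp only [Iso.trans_hom, asIso_hom, whiskerLeftIso_hom, Category.assoc]
      rw [reassoc_of% this, reassoc_of% hd', ← MonoidalCategory.whiskerLeft_comp, h.sq01,
        MonoidalCategory.whiskerLeft_comp]
    sq02 := by
      obtain ⟨d, hd, hd'⟩ := exists_ch_nat M h.ψ2 (sp h.φ2 ≫ h.s) (sp h.ψ1 ≫ sp h.φ1 ≫ h.s)
        (Over.homMk (sp h.ψ2) (by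
          show sp h.ψ2 ≫ sp h.φ2 ≫ h.s = sp h.ψ1 ≫ sp h.φ1 ≫ h.s
          rw [← Category.assoc, ← Category.assoc, Groth.L09.Patch.sp_comp, Groth.L09.Patch.sp_comp, h.isFib.comm]))
        rfl
      simp only [Iso.trans_hom, asIso_hom, whiskerLeftIso_hom, Category.assoc]
      rw [← Category.assoc _ i2]
      refine (congrArg (· ≫ ch M (sp h.φ2 ≫ h.s) ≫ (_ ◁ h.e2.hom)) (show _ = i0 ≫ d from ?_)).trans ?_
      · apply Over.OverMorphism.ext
        rw [Over.comp_left, Over.comp_left, hd, idH_left, idH_left]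
        exact (Category.comp_id _).trans (Category.id_comp _).symm
      · rw [Category.assoc, reassoc_of% hd', ← MonoidalCategory.whiskerLeft_comp,
          ← MonoidalCategory.whiskerLeft_comp]
        exact congrArg (fun z => i0 ≫ ch M _ ≫ (_ ◁ z)) h.sq02 }

end Groth.L09.MagnetSmooth
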