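import Groth.Agent.L09.MagnetSmooth.Equiv
import Groth.Agent.L11.Magnet.Face
import Groth.Agent.L07.DiffMonoGeneric
import Groth.Prelude.Def_Magnet4

/-!
# Lifting elements of attractors along square zero thickenings
-/

set_option autoImplicit false
universe u

open CategoryTheory CategoryTheory.Limits MonoidalCategory CartesianMonoidalCategory MonObj AlgebraicGeometry Opposite

set_option backward.isDefEq.respectTransparency.types false

noncomputable section

namespace Groth.L09.MagnetSmooth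

open Groth.L11.Magnet
open _root_.Magnet

section Transport

variable {C : Type*} [Category C] [CartesianMonoidalCategory C] {G P P' X : C} [MonObj G]

/-- Transport of an action along an isomorphism. -/
def trAct (ρ : MonAct G P) (e : P' ⟶ P) [IsIso e] : MonAct G P' :=
  MonAct.mk' ((G ◁ e) ≫ ρ.act ≫ inv e)
    (fun T x => by rw [lift_whiskerLeft_assoc, ρ.lift_one_act_assoc, Category.assoc, IsIso.hom_inv_id,
      Category.comp_id])
    (fun T g h x => by
      simp only [lift_whiskerLeft_assoc, Category.assoc, IsIso.inv_hom_id, Category.comp_id]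
      rw [ρ.lift_mul_act_assoc])

theorem trAct_equivariant (ρ : MonAct G P) (e : P' ⟶ P) [IsIso e] :
    MonAct.IsEquivariant (trAct ρ e) ρ e := by
  simp [MonAct.IsEquivariant, trAct]

theorem inv_equivariant (ρ : MonAct G P) (e : P' ⟶ P) [IsIso e] :
    MonAct.IsEquivariant ρ (trAct ρ e) (inv e) := by
  simp only [MonAct.IsEquivariant, trAct, MonAct.mk'_act, ← Category.assoc]
  rw [← MonoidalCategory.whiskerLeft_comp, IsIso.inv_hom_id, MonoidalCategory.whiskerLeft_id, Category.id_comp]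

theorem whiskerRight_equivariant {B B' T : C} {ρ' : MonAct G B'} {ρ : MonAct G B} (k : B' ⟶ B)
    (hk : MonAct.IsEquivariant ρ' ρ k) :
    MonAct.IsEquivariant (ρ'.prod (MonAct.trivial G T)) (ρ.prod (MonAct.trivial G T)) (k ▷ T) := by
  rw [MonAct.isEquivariant_iff] at hk ⊢
  intro T' g z
  rw [← lift_comp_fst_snd z]
  simp only [MonAct.lift_prod_act_assoc, lift_whiskerRight, MonAct.lift_prod_act, MonAct.lift_trivial_act,
    Category.assoc, hk]

end Transport

/-- The infinitesimal lifting property along an arbitrary square zero surjection. -/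
theorem exists_lift_surj {X Y : Scheme.{u}} {f : X ⟶ Y} (hf : MoreMor.IsFormallySmoothHom f)
    {R R₀ : Type u} [CommRing R] [CommRing R₀] (q : R →+* R₀) (hq : Function.Surjective q)
    (hsq : RingHom.ker q ^ 2 = ⊥) (x : Spec (CommRingCat.of R₀) ⟶ X) (y : Spec (CommRingCat.of R) ⟶ Y)
    (h : Spec.map (CommRingCat.ofHom q) ≫ y = x ≫ f) :
    ∃ l : Spec (CommRingCat.of R) ⟶ X, Spec.map (CommRingCat.ofHom q) ≫ l = x ∧ l ≫ f = y := by
  let e := RingHom.quotientKerEquivOfSurjective hq
  have he : e.toRingHom.comp (Ideal.Quotient.mk (RingHom.ker q)) = q := rfl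
  have hee : Spec.map (CommRingCat.ofHom e.symm.toRingHom) ≫ Spec.map (CommRingCat.ofHom e.toRingHom) = 𝟙 _ ∧
      Spec.map (CommRingCat.ofHom e.toRingHom) ≫ Spec.map (CommRingCat.ofHom e.symm.toRingHom) = 𝟙 _ := by
    constructor <;>
      rw [← Spec.map_comp, ← CommRingCat.ofHom_comp] <;> simp
  have hq' : Spec.map (CommRingCat.ofHom e.toRingHom) ≫
      Spec.map (CommRingCat.ofHom (Ideal.Quotient.mk (RingHom.ker q))) = Spec.map (CommRingCat.ofHom q) := by
    rw [← Spec.map_comp, ← CommRingCat.ofHom_comp, he]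
  obtain ⟨l, h₁, h₂⟩ := hf R (RingHom.ker q) hsq (Spec.map (CommRingCat.ofHom e.symm.toRingHom) ≫ x) y (by
    rw [Category.assoc, ← h, ← hq', Category.assoc, reassoc_of% hee.1])
  exact ⟨l, by rw [← hq', Category.assoc, h₁, reassoc_of% hee.2], h₂⟩

variable {S : Scheme.{u}} {M : Type}

/-- The identity as a morphism between equal structure maps. -/
def idH {Z : Scheme.{u}} (f g : Z ⟶ S) (h : g = f) : Over.mk f ⟶ Over.mk g :=
  Over.homMk (𝟙 Z) ((Category.id_comp g).trans h)

theorem idH_left {Z : Scheme.{u}} (f g : Z ⟶ S) (h : g = f) : (idH f g h).left = 𝟙 Z := rfl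

theorem isIso_idH {Z : Scheme.{u}} (f g : Z ⟶ S) (h : g = f) : IsIso (idH f g h) := by
  have : IsIso ((Over.forget S).map (idH f g h)) := inferInstanceAs (IsIso (𝟙 Z))
  exact isIso_of_reflects_iso (idH f g h) (Over.forget S)

section Charts

variable [AddCommMonoid M] (N : AddSubmonoid M) {A : Type u} [CommRing A]
  (str : Spec (CommRingCat.of A) ⟶ S) (I : Ideal A)

/-- The structure map of the chart of `A(N) × Spec A`. -/
abbrev sN : Spec (CommRingCat.of (MonoidAlgebra A (Multiplicative N))) ⟶ S :=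
  Spec.map (CommRingCat.ofHom (algebraMap A (MonoidAlgebra A (Multiplicative N)))) ≫ str

/-- The chart of `A(N) × Spec A`. -/
def eN : Over.mk (sN N str) ⟶ AMonS S N ⊗ Over.mk str :=
  chart str (algebraMap A (MonoidAlgebra A (Multiplicative N))) (MonoidAlgebra.of A (Multiplicative N))

instance : IsIso (eN N str) := chart_isIso str _ _ (isMonAlg_monoidAlgebra A)

/-- Reduction of monoid algebras. -/
abbrev qN : MonoidAlgebra A (Multiplicative N) →+* MonoidAlgebra (A ⧸ I) (Multiplicative N) :=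
  MonoidAlgebra.mapRingHom (Multiplicative N) (Ideal.Quotient.mk I)

/-- The spectrum of the reduced monoid algebra. -/
abbrev specR : Scheme.{u} := Spec (CommRingCat.of (MonoidAlgebra (A ⧸ I) (Multiplicative N)))

theorem eR_w : Spec.map (CommRingCat.ofHom (algebraMap (A ⧸ I) (MonoidAlgebra (A ⧸ I) (Multiplicative N)))) ≫
      Spec.map (CommRingCat.ofHom (Ideal.Quotient.mk I)) ≫ str =
    Spec.map (CommRingCat.ofHom (qN N I)) ≫ sN N str := by
  rw [sN, ← Spec.map_comp_assoc, ← Spec.map_comp_assoc, ← CommRingCat.ofHom_comp, ← CommRingCat.ofHom_comp]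
  congr 3
  exact RingHom.ext fun r => by simp

/-- Identification of the reduced chart. -/
def eR0 : red (qN N I) (sN N str) ⟶
    chartObj (Spec.map (CommRingCat.ofHom (Ideal.Quotient.mk I)) ≫ str)
      (algebraMap (A ⧸ I) (MonoidAlgebra (A ⧸ I) (Multiplicative N))) :=
  idH _ _ (eR_w N str I)

/-- The reduced chart. -/
def eR : red (qN N I) (sN N str) ⟶
    AMonS S N ⊗ Over.mk (Spec.map (CommRingCat.ofHom (Ideal.Quotient.mk I)) ≫ str) :=
  eR0 N str I ≫ chart _ _ (MonoidAlgebra.of (A ⧸ I) (Multiplicative N))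

theorem eR0_left : (eR0 N str I).left = 𝟙 (specR N I) := idH_left _ _ _

instance : IsIso (eR N str I) := by
  have := chart_isIso (Spec.map (CommRingCat.ofHom (Ideal.Quotient.mk I)) ≫ str)
    (algebraMap (A ⧸ I) (MonoidAlgebra (A ⧸ I) (Multiplicative N))) (MonoidAlgebra.of (A ⧸ I) (Multiplicative N))
    (isMonAlg_monoidAlgebra _)
  rw [eR]
  have : IsIso (eR0 N str I) := isIso_idH _ _ _
  infer_instance

/-- The inclusion of the reduced base. -/
abbrev baseι : Over.mk (Spec.map (CommRingCat.ofHom (Ideal.Quotient.mk I)) ≫ str) ⟶ Over.mk str :=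
  Over.homMk (Spec.map (CommRingCat.ofHom (Ideal.Quotient.mk I))) rfl

theorem redι_eN : redι (qN N I) (sN N str) ≫ eN N str = eR N str I ≫ (AMonS S N ◁ baseι str I) := by
  obtain ⟨d, hd, hd'⟩ := chart_map (AddMonoidHom.id N) (Ideal.Quotient.mk I)
    (algebraMap A (MonoidAlgebra A (Multiplicative N)))
    (algebraMap (A ⧸ I) (MonoidAlgebra (A ⧸ I) (Multiplicative N)))
    (MonoidAlgebra.of A (Multiplicative N)) (MonoidAlgebra.of (A ⧸ I) (Multiplicative N)) (qN N I)
    (RingHom.ext fun r => by simp) (fun n => by simp [MonoidAlgebra.of_apply]) str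
    (Spec.map (CommRingCat.ofHom (Ideal.Quotient.mk I)) ≫ str) (baseι str I) rfl
  have hid : AMonS.map S (AddMonoidHom.id N) = 𝟙 _ := by
    apply MPts.char_injective
    refine MonoidHom.ext fun n => ?_
    rw [← Category.id_comp (AMonS.map S _), MPts.char_map]
    rfl
  rw [hid, id_tensorHom] at hd'
  rw [eR, eN, Category.assoc, ← hd']
  rw [← Category.assoc]
  congr 1
  apply Over.OverMorphism.ext
  rw [Over.comp_left, hd, eR0_left]
  exact (Category.id_comp _).symm

end Charts

variable [AddCommGroup M] (N : AddSubmonoid M) {A : Type u} [CommRing A] (I : Ideal A) (hI : I ^ 2 = ⊥)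
  (str : Spec (CommRingCat.of A) ⟶ S) {X : Over S} (a : MonAct (AMonS S M) X)

include hI in
theorem qN_surj_sq {P : Type} [AddCommMonoid P] :
    Function.Surjective (MonoidAlgebra.mapRingHom (Multiplicative P) (Ideal.Quotient.mk I)) ∧
      RingHom.ker (MonoidAlgebra.mapRingHom (Multiplicative P) (Ideal.Quotient.mk I)) ^ 2 = ⊥ :=
  mapRange_surj_sq _ Ideal.Quotient.mk_surjective (by rwa [Ideal.mk_ker])

include hI in
/-- Any lift of an element of the attractor as a morphism can be made equivariant. -/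
theorem exists_attr_lift (x : (attr a N).obj (op (Over.mk (Spec.map (CommRingCat.ofHom (Ideal.Quotient.mk I)) ≫ str))))
    (ψ : AMonS S N ⊗ Over.mk str ⟶ X) (hψ : (AMonS S N ◁ baseι str I) ≫ ψ = x.1) :
    ∃ l : (attr a N).obj (op (Over.mk str)), (attr a N).map (baseι str I).op l = x ∧
      (∀ {Y : Over S} (aY : MonAct (AMonS S M) Y) (f : X ⟶ Y), MonAct.IsEquivariant a aY f →
        MonAct.IsEquivariant ((subAct S M N).prod (MonAct.trivial (AMonS S M) (Over.mk str))) aY (ψ ≫ f) →
          l.1 ≫ f = ψ ≫ f) ∧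
      (∀ {F : AddSubmonoid M} (k : AMonS S F ⟶ AMonS S N), MonAct.IsEquivariant (subAct S M F) (subAct S M N) k →
        MonAct.IsEquivariant ((subAct S M F).prod (MonAct.trivial (AMonS S M) (Over.mk str))) a
          ((k ▷ Over.mk str) ≫ ψ) →
          (k ▷ Over.mk str) ≫ l.1 = (k ▷ Over.mk str) ≫ ψ) := by
  let ρ := (subAct S M N).prod (MonAct.trivial (AMonS S M) (Over.mk str))
  let ρ₀ := (subAct S M N).prod (MonAct.trivial (AMonS S M)
    (Over.mk (Spec.map (CommRingCat.ofHom (Ideal.Quotient.mk I)) ≫ str)))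
  have hwl : MonAct.IsEquivariant ρ₀ ρ (AMonS S N ◁ baseι str I) :=
    MonAct.prod_trivial_act_whiskerLeft _ _
  have hι : MonAct.IsEquivariant (trAct ρ₀ (eR N str I)) (trAct ρ (eN N str)) (redι (qN N I) (sN N str)) := by
    have h := (((trAct_equivariant ρ₀ (eR N str I)).comp hwl).comp (inv_equivariant ρ (eN N str)))
    rwa [← redι_eN, Category.assoc, IsIso.hom_inv_id, Category.comp_id] at h
  have hψ' : MonAct.IsEquivariant (trAct ρ₀ (eR N str I)) a (redι (qN N I) (sN N str) ≫ eN N str ≫ ψ) := by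
    rw [reassoc_of% redι_eN, hψ]
    exact (trAct_equivariant ρ₀ (eR N str I)).comp x.2
  obtain ⟨hq, hsq⟩ := qN_surj_sq (P := N) I hI
  obtain ⟨φ, hφ, hφι, hφf, hφk⟩ := exists_equivariant hq hsq _ _ a hι (eN N str ≫ ψ) hψ'
  refine ⟨⟨inv (eN N str) ≫ φ, (inv_equivariant ρ (eN N str)).comp hφ⟩, Subtype.ext ?_, ?_, ?_⟩
  · show (AMonS S N ◁ baseι str I) ≫ inv (eN N str) ≫ φ = x.1
    rw [← cancel_epi (eR N str I), ← reassoc_of% redι_eN, IsIso.hom_inv_id_assoc, hφι, reassoc_of% redι_eN, hψ]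
  · intro Y aY f hf h
    have := hφf aY f hf (by rw [Category.assoc]; exact (trAct_equivariant ρ (eN N str)).comp h)
    show (inv (eN N str) ≫ φ) ≫ f = ψ ≫ f
    rw [Category.assoc, this, Category.assoc, IsIso.inv_hom_id_assoc]
  · intro F k hk h
    let ρF := (subAct S M F).prod (MonAct.trivial (AMonS S M) (Over.mk str))
    let kk : Over.mk (sN F str) ⟶ Over.mk (sN N str) := eN F str ≫ (k ▷ Over.mk str) ≫ inv (eN N str)
    have h1 : MonAct.IsEquivariant (trAct ρF (eN F str)) (trAct ρ (eN N str)) kk :=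
      (trAct_equivariant ρF (eN F str)).comp ((whiskerRight_equivariant k hk).comp (inv_equivariant ρ (eN N str)))
    have h2 := hφk (sN F str) (trAct ρF (eN F str)) kk h1 (by
      simp only [kk, Category.assoc, IsIso.inv_hom_id_assoc]
      exact (trAct_equivariant ρF (eN F str)).comp h)
    simp only [kk, Category.assoc, IsIso.inv_hom_id_assoc, cancel_epi] at h2
    exact h2

include hI in
/-- The attractor of a smooth morphism is formally smooth. -/
theorem exists_attr_lift_postcomp {Y : Over S} (aY : MonAct (AMonS S M) Y) (f : X ⟶ Y)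
    (hf : MonAct.IsEquivariant a aY f) [Smooth f.left]
    (x : (attr a N).obj (op (Over.mk (Spec.map (CommRingCat.ofHom (Ideal.Quotient.mk I)) ≫ str))))
    (y : (attr aY N).obj (op (Over.mk str)))
    (h : x.1 ≫ f = (AMonS S N ◁ baseι str I) ≫ y.1) :
    ∃ l : (attr a N).obj (op (Over.mk str)), (attr a N).map (baseι str I).op l = x ∧ l.1 ≫ f = y.1 := by
  obtain ⟨hq, hsq⟩ := qN_surj_sq (P := N) I hI
  obtain ⟨ψ₀, h₁, h₂⟩ := exists_lift_surj (Groth.L07.DiffMono.isFormallySmoothHom_of_smooth f.left) (qN N I)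
    hq hsq (eR N str I ≫ x.1).left (eN N str ≫ y.1).left (by
      rw [← Over.comp_left (g := f), Category.assoc, h, ← reassoc_of% redι_eN]
      rfl)
  let ψo : Over.mk (sN N str) ⟶ X := Over.homMk ψ₀ (by
    rw [← Over.w f, ← Category.assoc, h₂, Over.w (eN N str ≫ y.1)])
  let ψ := inv (eN N str) ≫ ψo
  have hψ : (AMonS S N ◁ baseι str I) ≫ ψ = x.1 := by
    rw [← cancel_epi (eR N str I), ← reassoc_of% redι_eN, IsIso.hom_inv_id_assoc]
    exact Over.OverMorphism.ext h₁
  have hψf : ψ ≫ f = y.1 := by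
    rw [Category.assoc, IsIso.inv_comp_eq]
    exact Over.OverMorphism.ext h₂
  obtain ⟨l, hl, hlf, -⟩ := exists_attr_lift N I hI str a x ψ hψ
  exact ⟨l, hl, (hlf aY f hf (by rw [hψf]; exact y.2)).trans hψf⟩

theorem faceAlgHom_qN {F : AddSubmonoid M} (hF : IsFace N F) :
    (faceAlgHom (A ⧸ I) hF).toRingHom.comp (qN N I) = (qN F I).comp (faceAlgHom A hF).toRingHom := by
  refine MonoidAlgebra.ringHom_ext (fun r => ?_) fun n => ?_
  · show faceAlgHom (A ⧸ I) hF (qN N I (algebraMap A _ r)) = qN F I (faceAlgHom A hF (algebraMap A _ r))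
    rw [(faceAlgHom A hF).commutes]
    have : ∀ (P : AddSubmonoid M), qN P I (algebraMap A _ r) =
        algebraMap (A ⧸ I) _ (Ideal.Quotient.mk I r) := fun P => by simp
    rw [this, this, (faceAlgHom (A ⧸ I) hF).commutes]
  · obtain ⟨n', rfl⟩ : ∃ k, Multiplicative.ofAdd k = n := ⟨n.toAdd, rfl⟩
    show faceAlgHom (A ⧸ I) hF (qN N I (MonoidAlgebra.single _ 1)) =
      qN F I (faceAlgHom A hF (MonoidAlgebra.single _ 1))
    rw [MonoidAlgebra.mapRingHom_single, map_one]
    by_cases hn : (n' : M) ∈ F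
    · rw [faceAlgHom_single_of_mem _ hF n' hn, faceAlgHom_single_of_mem _ hF n' hn,
        MonoidAlgebra.mapRingHom_single, map_one]
    · rw [faceAlgHom_single_of_not_mem _ hF n' hn, faceAlgHom_single_of_not_mem _ hF n' hn, map_zero]

include hI in
/-- The face projection of attractors of a smooth scheme is formally smooth. -/
theorem exists_attr_lift_face {F : AddSubmonoid M} (hF : IsFace N F) [Smooth X.hom]
    (x : (attr a N).obj (op (Over.mk (Spec.map (CommRingCat.ofHom (Ideal.Quotient.mk I)) ≫ str))))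
    (y : (attr a F).obj (op (Over.mk str)))
    (h : (AMonS.faceMap S hF ▷ _) ≫ x.1 = (AMonS S F ◁ baseι str I) ≫ y.1) :
    ∃ l : (attr a N).obj (op (Over.mk str)), (attr a N).map (baseι str I).op l = x ∧
      (AMonS.faceMap S hF ▷ Over.mk str) ≫ l.1 = y.1 := by
  classical
  let t₁ := (faceAlgHom A hF).toRingHom
  let t₀ := (faceAlgHom (A ⧸ I) hF).toRingHom
  have hsur : ∀ (B : Type u) [CommRing B], Function.Surjective (faceAlgHom B hF) := fun B _ z =>
    ⟨_, DFunLike.congr_fun (faceAlgHom_comp_mapDomain B hF) z⟩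
  have hfib := Groth.L20.Pinch.isFib_fib (qN F I) t₀ (hsur _)
  let pt : MonoidAlgebra A (Multiplicative N) →+* Groth.L20.Pinch.Fib (qN F I) t₀ :=
    (t₁.prod (qN N I)).codRestrict _ fun z => (DFunLike.congr_fun (faceAlgHom_qN N I hF) z).symm
  have hp₁ : (Groth.L20.Pinch.fib1 (qN F I) t₀).comp pt = t₁ := rfl
  have hp₂ : (Groth.L20.Pinch.fib2 (qN F I) t₀).comp pt = qN N I := rfl
  obtain ⟨hq, hsq⟩ := qN_surj_sq (P := N) I hI
  have hpt : Function.Surjective pt := by
    rintro ⟨⟨u, v⟩, huv⟩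
    obtain ⟨w, rfl⟩ := hq v
    let j : MonoidAlgebra A (Multiplicative F) →+* MonoidAlgebra A (Multiplicative N) :=
      MonoidAlgebra.mapDomainRingHom A (AddMonoidHom.toMultiplicative (AddSubmonoid.inclusion hF.le))
    have hj : ∀ d, t₁ (j d) = d := fun d => DFunLike.congr_fun (faceAlgHom_comp_mapDomain A hF) d
    refine ⟨w + j (u - t₁ w), Subtype.ext (Prod.ext ?_ ?_)⟩
    · show t₁ (w + j (u - t₁ w)) = u
      rw [map_add, hj]
      abel
    · show qN N I (w + j (u - t₁ w)) = qN N I w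
      have hd : qN F I (u - t₁ w) = 0 := by
        rw [map_sub, sub_eq_zero]
        exact huv.trans (DFunLike.congr_fun (faceAlgHom_qN N I hF) w)
      have hcomm : ∀ d, qN N I (j d) = MonoidAlgebra.mapDomainRingHom (A ⧸ I)
          (AddMonoidHom.toMultiplicative (AddSubmonoid.inclusion hF.le)) (qN F I d) := fun d =>
        DFunLike.congr_fun (show (qN N I).comp j = (MonoidAlgebra.mapDomainRingHom (A ⧸ I) _).comp (qN F I) from
          MonoidAlgebra.ringHom_ext (fun r => by simp [j]) fun n => by simp [j]) d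
      rw [map_add, hcomm, hd, map_zero, add_zero]
  have hptsq : RingHom.ker pt ^ 2 = ⊥ := by
    refine eq_bot_iff.2 ((Ideal.pow_right_mono ?_ 2).trans hsq.le)
    intro z hz
    rw [RingHom.mem_ker] at hz ⊢
    have := congrArg (Groth.L20.Pinch.fib2 (qN F I) t₀) hz
    rwa [map_zero] at this
  obtain ⟨d, hd, hd'⟩ := chart_faceMap str hF
  obtain ⟨d₀, hd₀, hd₀'⟩ := chart_faceMap (Spec.map (CommRingCat.ofHom (Ideal.Quotient.mk I)) ≫ str) hF
  obtain ⟨H, H₁, H₂⟩ := hfib.exists_desc_hom (eN F str ≫ y.1).left (eR N str I ≫ x.1).left (by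
    have e : redι (qN F I) (sN F str) ≫ eN F str ≫ y.1 =
        eR F str I ≫ (AMonS.faceMap S hF ▷ _) ≫ x.1 := by
      rw [reassoc_of% redι_eN, h]
    have e' := congrArg Over.Hom.left e
    refine (show _ = (redι (qN F I) (sN F str) ≫ eN F str ≫ y.1).left from rfl).trans (e'.trans ?_)
    rw [eR, Category.assoc, ← reassoc_of% hd₀']
    simp only [Over.comp_left, hd₀]
    refine congrArg (Spec.map _ ≫ ·) (congrArg (· ≫ _) ?_)
    rw [eR, Over.comp_left, eR0_left]
    exact (Category.id_comp _).symm)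
  obtain ⟨ψ₀, h₁, h₂⟩ := exists_lift_surj (Groth.L07.DiffMono.isFormallySmoothHom_of_smooth X.hom) pt hpt hptsq
    H (sN N str) (by
      refine hfib.hom_ext_spec _ _ ?_ ?_
      · rw [reassoc_of% H₁, Over.w (eN F str ≫ y.1)]
        show Spec.map _ ≫ Spec.map _ ≫ sN N str = sN F str
        rw [← Spec.map_comp_assoc, ← CommRingCat.ofHom_comp, hp₁, ← hd]
        exact Over.w d
      · rw [reassoc_of% H₂, Over.w (eR N str I ≫ x.1)]
        show Spec.map _ ≫ Spec.map _ ≫ sN N str = (red (qN N I) (sN N str)).hom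
        rw [← Spec.map_comp_assoc, ← CommRingCat.ofHom_comp, hp₂]
        rfl)
  let ψo : Over.mk (sN N str) ⟶ X := Over.homMk ψ₀ h₂
  let ψ := inv (eN N str) ≫ ψo
  have hψ : (AMonS S N ◁ baseι str I) ≫ ψ = x.1 := by
    rw [← cancel_epi (eR N str I), ← reassoc_of% redι_eN, IsIso.hom_inv_id_assoc]
    apply Over.OverMorphism.ext
    show Spec.map (CommRingCat.ofHom ((Groth.L20.Pinch.fib2 (qN F I) t₀).comp pt)) ≫ ψ₀ = _
    rw [CommRingCat.ofHom_comp, Spec.map_comp, Category.assoc, h₁]
    exact H₂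
  have hψy : (AMonS.faceMap S hF ▷ Over.mk str) ≫ ψ = y.1 := by
    rw [← cancel_epi (eN F str), eN, ← reassoc_of% hd']
    show d ≫ eN N str ≫ inv (eN N str) ≫ ψo = eN F str ≫ y.1
    rw [IsIso.hom_inv_id_assoc]
    apply Over.OverMorphism.ext
    rw [Over.comp_left, hd]
    show Spec.map (CommRingCat.ofHom t₁) ≫ ψ₀ = _
    rw [← hp₁, CommRingCat.ofHom_comp, Spec.map_comp, Category.assoc, h₁]
    exact H₁
  obtain ⟨l, hl, -, hlk⟩ := exists_attr_lift N I hI str a x ψ hψ
  exact ⟨l, hl, (hlk (AMonS.faceMap S hF) (isEquivariant_faceMapS S hF) (by rw [hψy]; exact y.2)).trans hψy⟩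

end Groth.L09.MagnetSmooth
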