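import Groth.Agent.L09.MagnetSmooth.Avg

/-!
# Naturality of the mean under base change and translation
-/

set_option autoImplicit false
universe u

open CategoryTheory CategoryTheory.Limits MonoidalCategory CartesianMonoidalCategory MonObj AlgebraicGeometry Opposite

set_option backward.isDefEq.respectTransparency.types false

noncomputable section

namespace Groth.L09.MagnetSmooth

open Groth.L11.Magnet

variable {S : Scheme.{u}} {M : Type} [AddCommGroup M] {R R₀ : Type u} [CommRing R] [CommRing R₀]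
  {q : R →+* R₀} {hq : Function.Surjective q} {hsq : RingHom.ker q ^ 2 = ⊥}
  {s : Spec (CommRingCat.of R) ⟶ S}
  {R' R₀' : Type u} [CommRing R'] [CommRing R₀'] {q' : R' →+* R₀'}
  {s' : Spec (CommRingCat.of R') ⟶ S}

theorem exists_twist (k : R →+* R') (v : Multiplicative M →* R') :
    ∃ Φ : MonoidAlgebra R (Multiplicative M) →+* MonoidAlgebra R' (Multiplicative M),
      Φ.comp (algebraMap R _) = (algebraMap R' _).comp k ∧
      (∀ m, Φ (MonoidAlgebra.single m 1) = MonoidAlgebra.single m (v m)) ∧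
      ∀ z m, (Φ z).coeff m = k (z.coeff m) * v m := by
  classical
  obtain ⟨Φ, h₁, h₂⟩ := (isMonAlg_monoidAlgebra (M := M) R).ex
    ((algebraMap R' (MonoidAlgebra R' (Multiplicative M))).comp k)
    { toFun := fun m => MonoidAlgebra.single m (v m)
      map_one' := by simp [MonoidAlgebra.one_def]
      map_mul' := fun m n => by simp }
  refine ⟨Φ, h₁, fun m => DFunLike.congr_fun h₂ m, fun z m => ?_⟩
  induction z using MonoidAlgebra.induction_linear with
  | zero => simp
  | add x y hx hy => simp [hx, hy, _root_.add_mul]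
  | single n r =>
    have : (MonoidAlgebra.single n r : MonoidAlgebra R (Multiplicative M)) =
        algebraMap R _ r * MonoidAlgebra.single n 1 := by simp
    rw [this, map_mul, show Φ (algebraMap R _ r) = _ from DFunLike.congr_fun h₁ r,
      show Φ (MonoidAlgebra.single n 1) = _ from DFunLike.congr_fun h₂ n]
    by_cases h : n = m
    · subst h; simp
    · simp [h]

/-- The mean commutes with base change and translation. -/
theorem IsAvg.nat (hq' : Function.Surjective q') (hsq' : RingHom.ker q' ^ 2 = ⊥) {X : Over S}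
    {c : _root_.Magnet.AMonS S M ⊗ Over.mk s ⟶ X} {φ : Over.mk s ⟶ X} (h : IsAvg M q hq hsq s c φ)
    (k : Over.mk s' ⟶ Over.mk s) (k₀ : red q' s' ⟶ red q s) (hk : k₀ ≫ redι q s = redι q' s' ≫ k)
    (t : Over.mk s' ⟶ _root_.Magnet.AMonS S M) :
    IsAvg M q' hq' hsq' s' (lift (fst _ _ * (snd _ _ ≫ t)) (snd _ _ ≫ k) ≫ c) (k ≫ φ) := by
  classical
  obtain ⟨c', hc₁, rfl⟩ := h
  obtain ⟨kr, hkr⟩ : ∃ kr : R →+* R', k.left = Spec.map (CommRingCat.ofHom kr) :=
    ⟨(Spec.preimage k.left).hom, (Spec.map_preimage k.left).symm⟩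
  obtain ⟨kr₀, hkr₀⟩ : ∃ kr : R₀ →+* R₀', k₀.left = Spec.map (CommRingCat.ofHom kr) :=
    ⟨(Spec.preimage k₀.left).hom, (Spec.map_preimage k₀.left).symm⟩
  have hkk : kr₀.comp q = q'.comp kr := by
    have := congrArg Over.Hom.left hk
    rw [Over.comp_left, Over.comp_left, hkr, hkr₀] at this
    simp only [Over.homMk_left, ← Spec.map_comp, ← CommRingCat.ofHom_comp] at this
    exact congrArg CommRingCat.Hom.hom (Spec.map_injective this)
  let v : Multiplicative M →* R' :=
    (Scheme.ΓSpecIso (CommRingCat.of R')).hom.hom.toMonoidHom.comp (MPts.char t)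
  have hv : ∀ m, MPts.char t m = (Scheme.ΓSpecIso (CommRingCat.of R')).inv (v m) := fun m => by
    simp [v]
  obtain ⟨Φ, hΦ₁, hΦ₂, hΦ⟩ := exists_twist kr v
  have hΦZ : ∀ z : Z M q, Φ z.1 ∈ Z M q' := fun z => mem_Z_iff.2 fun m hm => by
    rw [hΦ, map_mul, ← RingHom.comp_apply, ← hkk, RingHom.comp_apply, mem_Z_iff.1 z.2 m hm, map_zero,
      zero_mul]
  let ΦZ : Z M q →+* Z M q' := (Φ.comp (Z M q).subtype).codRestrict _ hΦZ
  have hks : Spec.map (CommRingCat.ofHom kr) ≫ s = s' := hkr ▸ Over.w k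
  let kW : W M q' s' ⟶ W M q s := Over.homMk (Spec.map (CommRingCat.ofHom ΦZ)) (by
    show _ ≫ Spec.map _ ≫ s = Spec.map _ ≫ s'
    rw [← hks, ← Spec.map_comp_assoc, ← Spec.map_comp_assoc, ← CommRingCat.ofHom_comp, ← CommRingCat.ofHom_comp]
    congr 3
    exact RingHom.ext fun r => Subtype.ext (DFunLike.congr_fun hΦ₁ r))
  let d : chartObj s' (algebraMap R' (MonoidAlgebra R' (Multiplicative M))) ⟶
      chartObj s (algebraMap R (MonoidAlgebra R (Multiplicative M))) :=
    Over.homMk (Spec.map (CommRingCat.ofHom Φ)) (by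
      show _ ≫ Spec.map _ ≫ s = Spec.map _ ≫ s'
      rw [← hks, ← Spec.map_comp_assoc, ← Spec.map_comp_assoc, ← CommRingCat.ofHom_comp,
        ← CommRingCat.ofHom_comp, hΦ₁])
  have hd : d ≫ ch M s = ch M s' ≫ lift (fst _ _ * (snd _ _ ≫ t)) (snd _ _ ≫ k) := by
    apply CartesianMonoidalCategory.hom_ext
    · apply MPts.char_injective
      refine MonoidHom.ext fun m => ?_
      rw [Category.assoc, MPts.char_comp, chart_fst_char, Category.assoc, lift_fst, MonObj.comp_mul,
        MPts.char_mul, MonoidHom.mul_apply, chart_fst_char]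
      rw [show ch M s' ≫ snd _ _ ≫ t = Over.homMk (Spec.map (CommRingCat.ofHom
          (algebraMap R' (MonoidAlgebra R' (Multiplicative M))))) rfl ≫ t by rw [ch, chart, lift_snd_assoc],
        MPts.char_comp, hv]
      refine (appTop_specMap Φ _).trans (Eq.trans ?_ (congrArg _ (appTop_specMap
        (algebraMap R' (MonoidAlgebra R' (Multiplicative M))) (v m))).symm)
      refine Eq.trans ?_ (map_mul (Scheme.ΓSpecIso _).inv.hom _ _)
      refine congrArg _ ?_
      simp [MonoidAlgebra.of_apply, hΦ₂]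
    · rw [Category.assoc, Category.assoc, lift_snd, ch, ch, chart, chart, lift_snd, lift_snd_assoc]
      apply Over.OverMorphism.ext
      show Spec.map _ ≫ Spec.map _ = Spec.map _ ≫ k.left
      rw [hkr, ← Spec.map_comp, ← Spec.map_comp, ← CommRingCat.ofHom_comp, ← CommRingCat.ofHom_comp, hΦ₁]
  refine ⟨kW ≫ c', ?_, ?_⟩
  · rw [← reassoc_of% hd, ← hc₁, ← Category.assoc, ← Category.assoc]
    congr 1
    apply Over.OverMorphism.ext
    show Spec.map _ ≫ Spec.map _ = Spec.map _ ≫ Spec.map _
    rw [← Spec.map_comp, ← Spec.map_comp, ← CommRingCat.ofHom_comp, ← CommRingCat.ofHom_comp]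
    rfl
  · rw [← Category.assoc, ← Category.assoc]
    congr 1
    apply Over.OverMorphism.ext
    show Spec.map _ ≫ Spec.map _ = k.left ≫ Spec.map _
    rw [hkr, ← Spec.map_comp, ← Spec.map_comp, ← CommRingCat.ofHom_comp, ← CommRingCat.ofHom_comp]
    refine congrArg (fun f => Spec.map (CommRingCat.ofHom f)) (RingHom.ext fun z => ?_)
    show (Φ z.1).coeff 1 = kr (z.1.coeff 1)
    rw [hΦ, v.map_one, _root_.mul_one]

end Groth.L09.MagnetSmooth
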