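import Groth.Agent.L09.MagnetSmooth.FibSquare

/-!
# Equivariant push-outs along squares of spectra of fibre products
-/

set_option autoImplicit false
universe u

open CategoryTheory CategoryTheory.Limits MonoidalCategory CartesianMonoidalCategory MonObj AlgebraicGeometry Opposite

set_option backward.isDefEq.respectTransparency.types false

noncomputable section

namespace Groth.L09.MagnetSmooth

open _root_.Magnet

variable {S : Scheme.{u}} {M : Type} [AddCommGroup M]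
  {Q₀ Q₁ Q₂ P : Over S} {j₁ : Q₀ ⟶ Q₁} {j₂ : Q₀ ⟶ Q₂} {p₁ : Q₁ ⟶ P} {p₂ : Q₂ ⟶ P}

/-- A push-out of a span of equivariant morphisms carries a unique action, and is a push-out for equivariant
morphisms. -/
theorem exists_act (h : FibSq j₁ j₂ p₁ p₂) (b₀ : MonAct (AMonS S M) Q₀) (b₁ : MonAct (AMonS S M) Q₁)
    (b₂ : MonAct (AMonS S M) Q₂) (h₁ : MonAct.IsEquivariant b₀ b₁ j₁) (h₂ : MonAct.IsEquivariant b₀ b₂ j₂) :
    ∃ b : MonAct (AMonS S M) P, MonAct.IsEquivariant b₁ b p₁ ∧ MonAct.IsEquivariant b₂ b p₂ ∧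
      ∀ (X : Over S) (a : MonAct (AMonS S M) X) (f : P ⟶ X),
        MonAct.IsEquivariant b₁ a (p₁ ≫ f) → MonAct.IsEquivariant b₂ a (p₂ ≫ f) → MonAct.IsEquivariant b a f := by
  have hP := h.isPushout
  have hG := (h.tensor M).isPushout
  have hGG := ((h.tensor M).tensor M).isPushout
  have e1 : b₀.act ≫ j₁ = (AMonS S M ◁ j₁) ≫ b₁.act := h₁
  have e2 : b₀.act ≫ j₂ = (AMonS S M ◁ j₂) ≫ b₂.act := h₂
  have w : (AMonS S M ◁ j₁) ≫ b₁.act ≫ p₁ = (AMonS S M ◁ j₂) ≫ b₂.act ≫ p₂ := by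
    rw [← reassoc_of% e1, ← reassoc_of% e2, hP.w]
  let act : AMonS S M ⊗ P ⟶ P := hG.desc (b₁.act ≫ p₁) (b₂.act ≫ p₂) w
  have a1 : (AMonS S M ◁ p₁) ≫ act = b₁.act ≫ p₁ := hG.inl_desc _ _ _
  have a2 : (AMonS S M ◁ p₂) ≫ act = b₂.act ≫ p₂ := hG.inr_desc _ _ _
  have hone : lift (1 : P ⟶ AMonS S M) (𝟙 P) ≫ act = 𝟙 P := by
    have key : ∀ {Q : Over S} (bQ : MonAct (AMonS S M) Q) (p : Q ⟶ P), (AMonS S M ◁ p) ≫ act = bQ.act ≫ p →
        p ≫ lift (1 : P ⟶ AMonS S M) (𝟙 P) ≫ act = p ≫ 𝟙 P := fun bQ p hp => by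
      rw [comp_lift_assoc, MonObj.comp_one, Category.comp_id,
        show lift (1 : _ ⟶ AMonS S M) p = lift 1 (𝟙 _) ≫ (AMonS S M ◁ p) by simp,
        Category.assoc, hp, MonAct.lift_one_act_assoc, Category.id_comp]
    exact hP.hom_ext (key b₁ p₁ a1) (key b₂ p₂ a2)
  let u₁ : AMonS S M ⊗ (AMonS S M ⊗ P) ⟶ P :=
    lift (fst _ _ * (snd _ _ ≫ fst _ _)) (snd _ _ ≫ snd _ _) ≫ act
  let u₂ : AMonS S M ⊗ (AMonS S M ⊗ P) ⟶ P := (AMonS S M ◁ act) ≫ act
  have hmul : u₁ = u₂ := by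
    have key : ∀ {Q : Over S} (bQ : MonAct (AMonS S M) Q) (p : Q ⟶ P), (AMonS S M ◁ p) ≫ act = bQ.act ≫ p →
        (AMonS S M ◁ (AMonS S M ◁ p)) ≫ u₁ = (AMonS S M ◁ (AMonS S M ◁ p)) ≫ u₂ := fun {Q} bQ p hp => by
      have hl : (AMonS S M ◁ (AMonS S M ◁ p)) ≫ u₁ =
          lift (fst _ _ * (snd _ _ ≫ fst _ _)) (snd _ _ ≫ snd _ _) ≫ bQ.act ≫ p := by
        rw [← hp, lift_whiskerLeft_assoc]
        simp [u₁, comp_lift_assoc, MonObj.comp_mul]
      have hr : (AMonS S M ◁ (AMonS S M ◁ p)) ≫ u₂ = (AMonS S M ◁ bQ.act) ≫ bQ.act ≫ p := by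
        show _ ≫ (_ ◁ act) ≫ act = _
        rw [← MonoidalCategory.whiskerLeft_comp_assoc, hp, MonoidalCategory.whiskerLeft_comp, Category.assoc, hp]
      rw [hl, hr]
      apply _root_.Magnet.hom_ext_lift₂
      intro T g z
      rw [← lift_comp_fst_snd z]
      simp only [comp_lift_assoc, MonObj.comp_mul, lift_fst, lift_snd_assoc, lift_snd, lift_whiskerLeft_assoc,
        MonAct.lift_mul_act_assoc]
    exact hGG.hom_ext (key b₁ p₁ a1) (key b₂ p₂ a2)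
  let b : MonAct (AMonS S M) P := MonAct.mk' act
    (fun T x => by
      have := congrArg (x ≫ ·) hone
      simpa [comp_lift_assoc, MonObj.comp_one] using this)
    (fun T g k x => by
      have := congrArg (lift g (lift k x) ≫ ·) hmul
      simpa [u₁, u₂, comp_lift_assoc, MonObj.comp_mul] using this)
  refine ⟨b, a1.symm, a2.symm, fun X a f f₁ f₂ => hG.hom_ext ?_ ?_⟩
  · show _ ≫ act ≫ f = _
    rw [reassoc_of% a1, ← MonoidalCategory.whiskerLeft_comp_assoc]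
    exact f₁
  · show _ ≫ act ≫ f = _
    rw [reassoc_of% a2, ← MonoidalCategory.whiskerLeft_comp_assoc]
    exact f₂

end Groth.L09.MagnetSmooth
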