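import Groth.Agent.L09.MagnetSmooth.Lift
import Groth.Agent.L09.LfpLift.Basic
import Groth.Agent.S1488

/-!
# Morphisms of schemes representing maps of attractors are smooth
-/

set_option autoImplicit false
universe u

open CategoryTheory CategoryTheory.Limits MonoidalCategory CartesianMonoidalCategory MonObj AlgebraicGeometry Opposite

set_option backward.isDefEq.respectTransparency.types false

noncomputable section

namespace Groth.L09.MagnetSmooth

open Groth.L11.Magnet
open _root_.Magnet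
open Groth.L09.LfpLift

/-- Products with a fixed object commute with limits of connected shape. -/
def isLimitTensorLeft {C : Type*} [Category C] [CartesianMonoidalCategory C] {I : Type*} [Category I]
    [IsConnected I] {D : I ⥤ C} {c : Cone D} (hc : IsLimit c) (A : C) :
    IsLimit ((tensorLeft A).mapCone c) where
  lift s := lift (s.π.app (Classical.arbitrary I) ≫ fst A _)
    (hc.lift { pt := s.pt
               π := { app := fun i => s.π.app i ≫ snd A _
                      naturality := fun i j f => by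
                        have h := s.w f
                        change s.π.app i ≫ (A ◁ D.map f) = s.π.app j at h
                        simp [← h] } })
  fac s i := by
    apply CartesianMonoidalCategory.hom_ext
    · show (lift _ _ ≫ (A ◁ c.π.app i)) ≫ fst A _ = _
      rw [Category.assoc, whiskerLeft_fst, lift_fst]
      refine constant_of_preserves_morphisms (fun i => s.π.app i ≫ fst A _) (fun i j f => ?_) _ _
      have h := s.w f
      change s.π.app i ≫ (A ◁ D.map f) = s.π.app j at h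
      simp [← h]
    · show (lift _ _ ≫ (A ◁ c.π.app i)) ≫ snd A _ = _
      simp
  uniq s m hm := by
    apply CartesianMonoidalCategory.hom_ext
    · rw [lift_fst, ← hm]
      simp
    · rw [lift_snd]
      refine hc.hom_ext fun i => ?_
      rw [hc.fac, Category.assoc]
      show m ≫ snd A c.pt ≫ c.π.app i = s.π.app i ≫ snd A _
      rw [← hm]
      simp

variable {S : Scheme.{u}}

theorem isAffine_tensor {A : Over S} [IsAffineHom A.hom] (T : Over S) [IsAffine T.left] :
    IsAffine (A ⊗ T).left := by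
  show IsAffine (pullback A.hom T.hom)
  exact isAffine_of_isAffineHom (pullback.snd A.hom T.hom)

instance isAffineHom_AMonS (P : Type) [AddCommMonoid P] : IsAffineHom (AMonS S P).hom := by
  have : IsAffine (AMon (ULift.{u} ℤ) P).left := inferInstanceAs (IsAffine (Spec _))
  have : IsAffine GmPts.baseZ.{u} := inferInstanceAs (IsAffine (Spec _))
  have h : IsAffineHom (AMon (ULift.{u} ℤ) P).hom := isAffineHom_of_isAffine _
  exact MorphismProperty.pullback_snd (P := @IsAffineHom) (AMon (ULift.{u} ℤ) P).hom (GmPts.toBaseZ S) h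

variable {M : Type} [AddCommGroup M] {N : AddSubmonoid M} {X Y : Over S}

/-- A system of affine schemes multiplied by a diagonalisable monoid scheme. -/
theorem system_tensor {I : Type u} [SmallCategory I] [IsCofiltered I] (A : Over S) [IsAffineHom A.hom]
    (D : I ⥤ Over S) (c : Cone D) (hc : IsLimit ((Over.forget S).mapCone c))
    (hD : ∀ i, IsAffine (D.obj i).left) (hpt : IsAffine c.pt.left) :
    Nonempty (IsLimit ((Over.forget S).mapCone ((tensorLeft A).mapCone c))) ∧
      (∀ i, IsAffine ((D ⋙ tensorLeft A).obj i).left) ∧ IsAffine ((tensorLeft A).mapCone c).pt.left := by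
  have : IsConnected I := IsCofiltered.isConnected I
  exact ⟨⟨isLimitOfPreserves (Over.forget S) (isLimitTensorLeft (isLimitOfReflects (Over.forget S) hc) A)⟩,
    fun i => (have := hD i; isAffine_tensor _), isAffine_tensor c.pt⟩

/-- Lifting elements of attractors along limits, relative to a morphism locally of finite presentation. -/
theorem exists_stage_attr (aX : MonAct (AMonS S M) X) (aY : MonAct (AMonS S M) Y) (f : X ⟶ Y)
    (hf : MonAct.IsEquivariant aX aY f) [LocallyOfFinitePresentation f.left]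
    {I : Type u} [SmallCategory I] [IsCofiltered I] (D : I ⥤ Over S) (c : Cone D)
    (hc : IsLimit ((Over.forget S).mapCone c)) (hD : ∀ i, IsAffine (D.obj i).left) (hpt : IsAffine c.pt.left)
    (φ : (attr aX N).obj (op c.pt)) (i : I) (ζ : (attr aY N).obj (op (D.obj i)))
    (h : φ.1 ≫ f = (AMonS S N ◁ c.π.app i) ≫ ζ.1) :
    ∃ (k : I) (t : k ⟶ i) (φk : (attr aX N).obj (op (D.obj k))),
      (AMonS S N ◁ c.π.app k) ≫ φk.1 = φ.1 ∧ φk.1 ≫ f = (AMonS S N ◁ D.map t) ≫ ζ.1 := by
  obtain ⟨⟨hc₁⟩, hD₁, hpt₁⟩ := system_tensor (AMonS S N) D c hc hD hpt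
  obtain ⟨k, t, xk, h₁, h₂⟩ := lifts_yon f _ _ hc₁ hD₁ hpt₁ ((AlgSp.yon S).map φ.1) i ((AlgSp.yon S).map ζ.1) (by
    rw [← Functor.map_comp, ← Functor.map_comp]
    exact congrArg _ h)
  obtain ⟨ψ, rfl⟩ := (AlgSp.yon S).map_surjective xk
  have e₁ : (AMonS S N ◁ c.π.app k) ≫ ψ = φ.1 :=
    (AlgSp.yon S).map_injective ((Functor.map_comp _ _ _).trans h₁)
  have e₂ : ψ ≫ f = (AMonS S N ◁ D.map t) ≫ ζ.1 :=
    (AlgSp.yon S).map_injective ((Functor.map_comp _ _ _).trans (h₂.trans (Functor.map_comp _ _ _).symm))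
  let ρ : ∀ T : Over S, MonAct (AMonS S M) (AMonS S N ⊗ T) := fun T =>
    (subAct S M N).prod (MonAct.trivial (AMonS S M) T)
  let u₁ : AMonS S M ⊗ (AMonS S N ⊗ D.obj k) ⟶ X := (ρ _).act ≫ ψ
  let u₂ : AMonS S M ⊗ (AMonS S N ⊗ D.obj k) ⟶ X := (AMonS S M ◁ ψ) ≫ aX.act
  have hu : u₁ ≫ f = u₂ ≫ f := by
    show ((ρ _).act ≫ ψ) ≫ f = ((_ ◁ ψ) ≫ aX.act) ≫ f
    rw [Category.assoc, Category.assoc, show aX.act ≫ f = (_ ◁ f) ≫ aY.act from hf,
      ← MonoidalCategory.whiskerLeft_comp_assoc, e₂]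
    exact ((eqvHomMapEq ζ (D.map t)))
  have hp : (AMonS S M ◁ (AMonS S N ◁ c.π.app k)) ≫ u₁ = (AMonS S M ◁ (AMonS S N ◁ c.π.app k)) ≫ u₂ := by
    show _ ≫ (ρ _).act ≫ ψ = _ ≫ (_ ◁ ψ) ≫ aX.act
    rw [← Category.assoc, ← MonAct.prod_trivial_act_whiskerLeft, Category.assoc, e₁,
      ← MonoidalCategory.whiskerLeft_comp_assoc, e₁]
    exact φ.2
  obtain ⟨⟨hc₂⟩, hD₂, hpt₂⟩ := system_tensor (AMonS S M) _ _ hc₁ hD₁ hpt₁
  obtain ⟨l, t', hl⟩ := seps_yon f _ _ hc₂ hD₂ hpt₂ k ((AlgSp.yon S).map u₁) ((AlgSp.yon S).map u₂)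
    (by rw [← Functor.map_comp, ← Functor.map_comp, hu])
    (by rw [← Functor.map_comp, ← Functor.map_comp]; exact congrArg _ hp)
  have e₃ : (AMonS S M ◁ (AMonS S N ◁ D.map t')) ≫ u₁ = (AMonS S M ◁ (AMonS S N ◁ D.map t')) ≫ u₂ :=
    (AlgSp.yon S).map_injective (((Functor.map_comp _ _ _).trans hl).trans (Functor.map_comp _ _ _).symm)
  refine ⟨l, t' ≫ t, ⟨(AMonS S N ◁ D.map t') ≫ ψ, ?_⟩, ?_, ?_⟩
  · show (ρ _).act ≫ _ ≫ ψ = _
    rw [← Category.assoc, MonAct.prod_trivial_act_whiskerLeft, Category.assoc, MonoidalCategory.whiskerLeft_comp,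
      Category.assoc]
    exact e₃
  · show (AMonS S N ◁ c.π.app l) ≫ (AMonS S N ◁ D.map t') ≫ ψ = φ.1
    rw [← Category.assoc, ← MonoidalCategory.whiskerLeft_comp, c.w, e₁]
  · show ((AMonS S N ◁ D.map t') ≫ ψ) ≫ f = _
    rw [Category.assoc, e₂, ← Category.assoc, ← MonoidalCategory.whiskerLeft_comp, ← D.map_comp]
where
  eqvHomMapEq {Y : Over S} {aY : MonAct (AMonS S M) Y} {T T' : Over S} (ζ : (attr aY N).obj (op T)) (g : T' ⟶ T) :
      ((subAct S M N).prod (MonAct.trivial (AMonS S M) T')).act ≫ (AMonS S N ◁ g) ≫ ζ.1 =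
        (AMonS S M ◁ ((AMonS S N ◁ g) ≫ ζ.1)) ≫ aY.act := ((attr aY N).map g.op ζ).2

/-- A morphism of representing schemes of a map between attractor-like functors is smooth. -/
theorem smooth_of_lifts {F G : (Over S)ᵒᵖ ⥤ Type u} {ZF ZG : Over S} (eF : F.RepresentableBy ZF)
    (eG : G.RepresentableBy ZG) (τ : F ⟶ G) (j : ZF ⟶ ZG)
    (hj : ∀ (T : Over S) (z : T ⟶ ZF), eG.homEquiv (z ≫ j) = τ.app (op T) (eF.homEquiv z))
    (hfs : ∀ (A : Type u) [CommRing A] (I : Ideal A) (_ : I ^ 2 = ⊥) (str : Spec (CommRingCat.of A) ⟶ S)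
      (x : F.obj (op (Over.mk (Spec.map (CommRingCat.ofHom (Ideal.Quotient.mk I)) ≫ str))))
      (y : G.obj (op (Over.mk str))), τ.app _ x = G.map (baseι str I).op y →
        ∃ l : F.obj (op (Over.mk str)), F.map (baseι str I).op l = x ∧ τ.app _ l = y)
    (hlim : ∀ {I : Type u} [SmallCategory I] [IsCofiltered I] (D : I ⥤ Over S) (c : Cone D),
      IsLimit ((Over.forget S).mapCone c) → (∀ i, IsAffine (D.obj i).left) → IsAffine c.pt.left →
      ∀ (φ : F.obj (op c.pt)) (i : I) (ζ : G.obj (op (D.obj i))), τ.app _ φ = G.map (c.π.app i).op ζ →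
        ∃ (k : I) (t : k ⟶ i) (φk : F.obj (op (D.obj k))),
          F.map (c.π.app k).op φk = φ ∧ τ.app _ φk = G.map (D.map t).op ζ) :
    Smooth j.left := by
  rw [Groth.Agent.S1488.result]
  refine ⟨lfp_of_lifts j ?_, ?_⟩
  · intro I _ _ D c hc hD hpt x i y e
    obtain ⟨x, rfl⟩ := (AlgSp.yon S).map_surjective x
    obtain ⟨y, rfl⟩ := (AlgSp.yon S).map_surjective y
    have e' : x ≫ j = c.π.app i ≫ y :=
      (AlgSp.yon S).map_injective ((Functor.map_comp _ _ _).trans (e.trans (Functor.map_comp _ _ _).symm))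
    obtain ⟨k, t, φk, h₁, h₂⟩ := hlim D c hc hD hpt (eF.homEquiv x) i (eG.homEquiv y)
      (by rw [← hj, e', eG.homEquiv_comp])
    refine ⟨k, t, (AlgSp.yon S).map (eF.homEquiv.symm φk), ?_, ?_⟩
    · rw [← Functor.map_comp]
      congr 1
      apply eF.homEquiv.injective
      rw [eF.homEquiv_comp, Equiv.apply_symm_apply, h₁]
    · rw [← Functor.map_comp, ← Functor.map_comp]
      congr 1
      apply eG.homEquiv.injective
      rw [hj, Equiv.apply_symm_apply, h₂, eG.homEquiv_comp]
  · intro A _ I hI a b e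
    let str : Spec (CommRingCat.of A) ⟶ S := b ≫ ZG.hom
    let xa : Over.mk (Spec.map (CommRingCat.ofHom (Ideal.Quotient.mk I)) ≫ str) ⟶ ZF := Over.homMk a (by
      show a ≫ ZF.hom = _ ≫ b ≫ ZG.hom
      rw [← Over.w j, ← Category.assoc, ← e, Category.assoc])
    let yb : Over.mk str ⟶ ZG := Over.homMk b rfl
    have e' : xa ≫ j = baseι str I ≫ yb := Over.OverMorphism.ext e.symm
    obtain ⟨l, h₁, h₂⟩ := hfs A I hI str (eF.homEquiv xa) (eG.homEquiv yb)
      (by rw [← hj, e', eG.homEquiv_comp])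
    refine ⟨(eF.homEquiv.symm l).left, ?_, ?_⟩
    · have : baseι str I ≫ eF.homEquiv.symm l = xa := by
        apply eF.homEquiv.injective
        rw [eF.homEquiv_comp, Equiv.apply_symm_apply, h₁]
      exact congrArg Over.Hom.left this
    · have : eF.homEquiv.symm l ≫ j = yb := by
        apply eG.homEquiv.injective
        rw [hj, Equiv.apply_symm_apply, h₂]
      exact congrArg Over.Hom.left this

end Groth.L09.MagnetSmooth
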