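import Groth.Agent.L09.MagnetSmooth.Rep

/-!
# Lifting elements of face projections along limits
-/

set_option autoImplicit false
universe u

open CategoryTheory CategoryTheory.Limits MonoidalCategory CartesianMonoidalCategory AlgebraicGeometry Opposite

set_option backward.isDefEq.respectTransparency.types false

noncomputable section

namespace Groth.L09.MagnetSmooth

open _root_.Magnet
open Groth.L09.LfpLift

variable {S : Scheme.{u}} {M : Type} [AddCommGroup M] {N F : AddSubmonoid M} {X : Over S}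

/-- Lifting elements of the face projection along limits. -/
theorem exists_stage_face [LocallyOfFinitePresentation X.hom] (a : MonAct (AMonS S M) X) (hF : IsFace N F)
    {I : Type u} [SmallCategory I] [IsCofiltered I] (D : I ⥤ Over S) (c : Cone D)
    (hc : IsLimit ((Over.forget S).mapCone c)) (hD : ∀ i, IsAffine (D.obj i).left) (hpt : IsAffine c.pt.left)
    (φ : (attr a N).obj (op c.pt)) (i : I) (ζ : (attr a F).obj (op (D.obj i)))
    (h : (AMonS.faceMap S hF ▷ c.pt) ≫ φ.1 = (AMonS S F ◁ c.π.app i) ≫ ζ.1) :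
    ∃ (k : I) (t : k ⟶ i) (φk : (attr a N).obj (op (D.obj k))),
      (AMonS S N ◁ c.π.app k) ≫ φk.1 = φ.1 ∧
        (AMonS.faceMap S hF ▷ D.obj k) ≫ φk.1 = (AMonS S F ◁ D.map t) ≫ ζ.1 := by
  let f : X ⟶ 𝟙_ (Over S) := toUnit X
  have hl : f.left = X.hom := (Category.comp_id _).symm.trans (Over.w f)
  have : LocallyOfFinitePresentation f.left := by rw [hl]; infer_instance
  let aU := MonAct.trivial (AMonS S M) (𝟙_ (Over S))
  have hf : MonAct.IsEquivariant a aU f := toUnit_unique _ _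
  obtain ⟨k, t, φk, h₁, -⟩ := exists_stage_attr a aU f hf D c hc hD hpt φ i
    ⟨toUnit _, toUnit_unique _ _⟩ (toUnit_unique _ _)
  obtain ⟨⟨hc₁⟩, hD₁, hpt₁⟩ := system_tensor (AMonS S F) D c hc hD hpt
  have hp : (AMonS S F ◁ c.π.app k) ≫ (AMonS.faceMap S hF ▷ D.obj k) ≫ φk.1 =
      (AMonS S F ◁ c.π.app k) ≫ (AMonS S F ◁ D.map t) ≫ ζ.1 := by
    rw [← Category.assoc, whisker_exchange, Category.assoc, h₁, ← MonoidalCategory.whiskerLeft_comp_assoc, c.w]
    exact h
  obtain ⟨l, t', hl'⟩ := seps_yon f _ _ hc₁ hD₁ hpt₁ k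
    ((AlgSp.yon S).map ((AMonS.faceMap S hF ▷ D.obj k) ≫ φk.1))
    ((AlgSp.yon S).map ((AMonS S F ◁ D.map t) ≫ ζ.1))
    (by rw [← Functor.map_comp, ← Functor.map_comp]; exact congrArg _ (toUnit_unique _ _))
    (((Functor.map_comp _ _ _).symm.trans (congrArg _ hp)).trans (Functor.map_comp _ _ _))
  have e₃ : (AMonS S F ◁ D.map t') ≫ (AMonS.faceMap S hF ▷ D.obj k) ≫ φk.1 =
      (AMonS S F ◁ D.map t') ≫ (AMonS S F ◁ D.map t) ≫ ζ.1 :=
    (AlgSp.yon S).map_injective (((Functor.map_comp _ _ _).trans hl').trans (Functor.map_comp _ _ _).symm)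
  refine ⟨l, t' ≫ t, (attr a N).map (D.map t').op φk, ?_, ?_⟩
  · show (AMonS S N ◁ c.π.app l) ≫ (AMonS S N ◁ D.map t') ≫ φk.1 = φ.1
    rw [← MonoidalCategory.whiskerLeft_comp_assoc, c.w, h₁]
  · show (AMonS.faceMap S hF ▷ D.obj l) ≫ (AMonS S N ◁ D.map t') ≫ φk.1 = _
    rw [← Category.assoc, ← whisker_exchange, Category.assoc, e₃, ← MonoidalCategory.whiskerLeft_comp_assoc,
      ← D.map_comp]

end Groth.L09.MagnetSmooth
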